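import Groth.Agent.QCoh.Devissage
import Groth.Agent.AModX.Res
import Groth.Agent.AssLib.Push
import Groth.Agent.AssLib.OpenRestrict
import Groth.Agent.AssLib.FlatFibre

/-!
# Associated points and embeddings of structure modules of closures of points
-/

set_option autoImplicit false
set_option backward.isDefEq.respectTransparency false
set_option backward.isDefEq.respectTransparency.types false
set_option linter.style.haveILetI false

universe u

open CategoryTheory CategoryTheory.Limits AlgebraicGeometry TopologicalSpace Opposite Groth.Agent.QCoh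

namespace Groth.Agent.FlatAssocX.AssMono

variable {X : Scheme.{u}}

theorem exists_kernel_point {M : X.Modules} {U : X.Opens} (hM : Coh.IsQCoh M)
    (hU : IsAffineOpen U) (s : Γ(M, U)) (p : PrimeSpectrum Γ(X, U))
    (hp : ∀ a : Γ(X, U), a • s = 0 ↔ a ∈ p.asIdeal) :
    ∃ φ : Coh.structureModule X ⟶
        (Scheme.Modules.pushforward U.ι).obj (M.restrict U.ι),
      φ.app U (1 : Γ(X, U)) = ((Scheme.Modules.restrictAdjunction U.ι).unit.app M).app U s ∧
      ∀ (V : X.affineOpens) (a : Γ(X, V.1)),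
        φ.app V.1 a = 0 ↔ hU.fromSpec p ∉ X.basicOpen a := by
  have hTU : U.ι ''ᵁ (U.ι ⁻¹ᵁ (⊤ : X.Opens)) ≤ U := by
    rw [U.ι.image_preimage_eq_opensRange_inf, Scheme.Opens.opensRange_ι]
    exact inf_le_left
  let P := (Scheme.Modules.pushforward U.ι).obj (M.restrict U.ι)
  let t : Γ(P, ⊤) := M.presheaf.map (homOfLE hTU).op s
  let φ : Coh.structureModule X ⟶ P := homOfTop t
  have hφ : φ.app U (1 : Γ(X, U)) = ((Scheme.Modules.restrictAdjunction U.ι).unit.app M).app U s := by
    refine (homOfTop_app (P := P) t (1 : Γ(X, U))).trans ((one_smul _ _).trans ?_)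
    rw [Scheme.Modules.restrictAdjunction_unit_app_app]
    exact (push_restrict_map U M (homOfLE le_top) (M.presheaf.map (homOfLE hTU).op s)).trans
      (map_map (M := M) _ _ s)
  refine ⟨φ, hφ, fun V a => (app_eq_zero_iff_res s φ hφ V.1 a).trans ⟨fun h hξ => ?_, fun hξ => ?_⟩⟩
  · have hξU : hU.fromSpec p ∈ U := hU.range_fromSpec.le (Set.mem_range_self p)
    obtain ⟨g, hg, hxg⟩ := hU.exists_basicOpen_le (V := X.basicOpen a) ⟨_, hξ⟩ hξU
    have hgW : X.basicOpen g ≤ V.1 ⊓ U := le_inf (hg.trans (X.basicOpen_le a)) (X.basicOpen_le g)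
    have hu : IsUnit (X.presheaf.map (homOfLE (hg.trans (X.basicOpen_le a))).op a) := by
      have h' := (RingedSpace.isUnit_res_basicOpen X.toRingedSpace a).map
        (X.presheaf.map (homOfLE hg).op).hom
      exact ringMap_map (homOfLE hg) (homOfLE (X.basicOpen_le a)) a ▸ h'
    have h2 := congrArg (M.presheaf.map (homOfLE hgW).op) h
    rw [map_smul', map_zero, map_map, ringMap_map] at h2
    obtain ⟨n, hn⟩ := exists_pow_smul_eq_zero hM hU g s (hu.smul_left_cancel.1 (h2.trans (smul_zero _).symm))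
    exact (mem_basicOpen_fromSpec hU p g).1 hxg (p.2.mem_of_pow_mem n ((hp _).1 hn))
  · refine eq_zero_of_locally _ _ fun x hx => ?_
    obtain ⟨g, hgV, hxg⟩ := hU.exists_basicOpen_le (V := V.1) ⟨x, hx.1⟩ hx.2
    refine ⟨X.basicOpen g, homOfLE (le_inf hgV (X.basicOpen_le g)), hxg, ?_⟩
    rw [map_smul', map_map, ringMap_map]
    haveI := hU.isLocalization_basicOpen g
    obtain ⟨⟨b, ⟨_, n, rfl⟩⟩, hb⟩ := IsLocalization.surj (Submonoid.powers g)
      (X.presheaf.map (homOfLE hgV).op a)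
    have hgu : IsUnit (algebraMap Γ(X, U) Γ(X, X.basicOpen g) g) :=
      IsLocalization.map_units _ (⟨g, 1, pow_one g⟩ : Submonoid.powers g)
    have hres : ∀ c : Γ(X, U), c • s = 0 →
        algebraMap Γ(X, U) Γ(X, X.basicOpen g) c •
          M.presheaf.map (homOfLE (X.basicOpen_le g)).op s = 0 := fun c hc =>
      (map_smul' (homOfLE (X.basicOpen_le g)) c s).symm.trans ((congrArg _ hc).trans (map_zero _))
    show X.presheaf.map (homOfLE hgV).op a • M.presheaf.map (homOfLE (X.basicOpen_le g)).op s = 0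
    by_cases hgp : g ∈ p.asIdeal
    · rw [show M.presheaf.map (homOfLE (X.basicOpen_le g)).op s = 0 from
        hgu.smul_left_cancel.1 ((hres g ((hp g).2 hgp)).trans (smul_zero _).symm), smul_zero]
    · have hξg : hU.fromSpec p ∈ X.basicOpen g := (mem_basicOpen_fromSpec hU p g).2 hgp
      have hbp : b ∈ p.asIdeal := by
        by_contra hbp
        have hξb : hU.fromSpec p ∈ X.basicOpen b := (mem_basicOpen_fromSpec hU p b).2 hbp
        have hξb' : hU.fromSpec p ∈ X.basicOpen (algebraMap Γ(X, U) Γ(X, X.basicOpen g) b) :=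
          (X.basicOpen_res b (homOfLE (X.basicOpen_le g)).op).ge ⟨hξg, hξb⟩
        rw [show algebraMap Γ(X, U) Γ(X, X.basicOpen g) b = _ from hb.symm,
          Scheme.basicOpen_mul] at hξb'
        exact hξ ((X.basicOpen_res a (homOfLE hgV).op).le hξb'.1).2
      refine (hgu.pow n).smul_left_cancel.1 ?_
      rw [smul_zero, ← mul_smul, mul_comm, ← map_pow]
      exact (congrArg (fun c => c • M.presheaf.map (homOfLE (X.basicOpen_le g)).op s) hb).trans
        (hres b ((hp b).2 hbp))

/-- The structure module of the closure of a point. -/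
noncomputable abbrev clMod (x : X) : X.Modules :=
  (Scheme.Modules.pushforward (Scheme.IdealSheafData.vanishingIdeal ⟨closure {x}, isClosed_closure⟩).subschemeι).obj
    (Coh.structureModule (Scheme.IdealSheafData.vanishingIdeal ⟨closure {x}, isClosed_closure⟩).subscheme)

variable [IsLocallyNoetherian X]

theorem exists_mono_restrict {F : X.Modules} (hF : Coh.IsQCoh F) {x : X} (hx : x ∈ AssSch.Ass F) :
    ∃ (U : X.Opens), x ∈ U ∧ ∃ d : clMod x ⟶ (Scheme.Modules.pushforward U.ι).obj (F.restrict U.ι), Mono d := by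
  obtain ⟨U, hU, hxU, -⟩ := exists_isAffineOpen_mem_and_subset (x := x) (U := (⊤ : X.Opens)) trivial
  haveI : IsNoetherianRing Γ(X, U) := IsLocallyNoetherian.component_noetherian ⟨U, hU⟩
  obtain ⟨hprime, s, hs⟩ := isAssociatedPrime_iff.1 ((AssLib.mem_ass_iff hF hU hxU).1 hx)
  have hp : ∀ a : Γ(X, U), a • s = 0 ↔ a ∈ (hU.primeIdealOf ⟨x, hxU⟩).asIdeal := fun a => by
    rw [hs, Submodule.mem_colon_singleton, Submodule.mem_bot]
  obtain ⟨φ, -, hφ⟩ := exists_kernel_point hF hU s (hU.primeIdealOf ⟨x, hxU⟩) hp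
  simp only [hU.fromSpec_primeIdealOf] at hφ
  let J := Scheme.IdealSheafData.vanishingIdeal (X := X) ⟨closure {x}, isClosed_closure⟩
  let uu : Coh.structureModule X ⟶ clMod x := SheafOfModules.unitToPushforwardObjUnit J.subschemeι.toRingCatSheafHom
  have hsurj : ∀ V : X.affineOpens, Function.Surjective (uu.app V.1) := fun V => J.subschemeι_app_surjective V
  have hker : ∀ (V : X.affineOpens) (a : Γ(X, V.1)), uu.app V.1 a = 0 ↔ φ.app V.1 a = 0 := fun V a => by
    rw [hφ V a, ← QCoh.mem_vanishing_closure_iff x a]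
    show (J.subschemeι.app V.1).hom a = 0 ↔ _
    rw [← RingHom.mem_ker, J.ker_subschemeι_app V]
    rfl
  have hB : Opens.IsBasis X.affineOpens := X.isBasis_affineOpens
  haveI : Epi uu := by
    refine ⟨fun {Q} g h hgh => ?_⟩
    refine Scheme.Modules.hom_ext _ _ fun W => ?_
    ext y
    refine AModX.eq_of_locally _ _ fun p hp' => ?_
    obtain ⟨V, hV, hpV, hVW⟩ := Opens.isBasis_iff_nbhd.1 hB hp'
    refine ⟨V, hVW, hpV, ?_⟩
    rw [← AModX.app_res, ← AModX.app_res]
    obtain ⟨a, ha⟩ := hsurj ⟨V, hV⟩ (AModX.res (clMod x) hVW y)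
    rw [← ha]
    exact ConcreteCategory.congr_hom (congrArg (fun t => Scheme.Modules.Hom.app t V) hgh) a
  have hzero : kernel.ι uu ≫ φ = 0 := by
    refine Scheme.Modules.hom_ext _ _ fun W => ?_
    ext y
    refine AModX.eq_of_locally _ _ fun p hp' => ?_
    obtain ⟨V, hV, hpV, hVW⟩ := Opens.isBasis_iff_nbhd.1 hB hp'
    refine ⟨V, hVW, hpV, ?_⟩
    rw [← AModX.app_res, ← AModX.app_res]
    refine (hker ⟨V, hV⟩ _).1 ?_
    exact ConcreteCategory.congr_hom (congrArg (fun t => Scheme.Modules.Hom.app t V) (kernel.condition uu))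
      (AModX.res (kernel uu) hVW y)
  let d := Abelian.epiDesc uu φ hzero
  have hd : uu ≫ d = φ := Abelian.comp_epiDesc uu φ hzero
  refine ⟨U, hxU, d, QCoh.mono_of_isBasis d hB fun V hV => (injective_iff_map_eq_zero _).2 fun y hy => ?_⟩
  obtain ⟨a, rfl⟩ := hsurj ⟨V, hV⟩ y
  refine (hker ⟨V, hV⟩ a).2 ?_
  rw [← hd]
  exact hy

theorem exists_mono_pullback {F : X.Modules} (hF : Coh.IsQCoh F) {x : X} (hx : x ∈ AssSch.Ass F) :
    ∃ (U : X.Opens), x ∈ U ∧ ∃ φ : (Scheme.Modules.pullback U.ι).obj (clMod x) ⟶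
      (Scheme.Modules.pullback U.ι).obj F, Mono φ := by
  obtain ⟨U, hxU, d, hd⟩ := exists_mono_restrict hF hx
  let R := Scheme.Modules.restrictFunctor U.ι
  haveI : Mono (R.map d) := QCoh.mono_of_app_injective _ fun W => QCoh.app_injective d (U.ι ''ᵁ W)
  let e := Scheme.Modules.restrictFunctorIsoPullback U.ι
  exact ⟨U, hxU, e.inv.app _ ≫ R.map d ≫ (Scheme.Modules.restrictAdjunction U.ι).counit.app _ ≫ e.hom.app F,
    inferInstance⟩

theorem mem_ass_clMod (x : X) : x ∈ AssSch.Ass (clMod x) := by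
  let J := Scheme.IdealSheafData.vanishingIdeal (X := X) ⟨closure {x}, isClosed_closure⟩
  have hr : Set.range J.subschemeι = closure {x} := Groth.Agent.H23.RedSub.range_vanishingIdeal _
  obtain ⟨z, hz⟩ : x ∈ Set.range J.subschemeι := hr ▸ subset_closure rfl
  have hloc : IsLocallyNoetherian J.subscheme := LocallyOfFiniteType.isLocallyNoetherian J.subschemeι
  rw [clMod, AssLib.ass_push_eq_of_isAffineHom _ QCoh.isQCoh_structureModule]
  refine ⟨z, AssLib.mem_ass_of_maximal fun y hy => ?_, hz⟩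
  apply J.subschemeι.isClosedEmbedding.injective
  have h1 : J.subschemeι y ⤳ x := hz ▸ hy.map J.subschemeι.continuous
  have h2 : x ⤳ J.subschemeι y := specializes_iff_mem_closure.2 (hr.le ⟨y, rfl⟩)
  rw [hz]
  exact (h1.antisymm h2).eq

theorem mem_ass_of_mono {F : X.Modules} (U : X.Opens) {x : X} (hxU : x ∈ U)
    (φ : (Scheme.Modules.pullback U.ι).obj (clMod x) ⟶ (Scheme.Modules.pullback U.ι).obj F) [Mono φ] :
    x ∈ AssSch.Ass F := by
  have h : (⟨x, hxU⟩ : U) ∈ AssSch.Ass ((Scheme.Modules.pullback U.ι).obj (clMod x)) :=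
    (AssLib.mem_ass_pullback_iff U.ι _ _).2 (mem_ass_clMod x)
  haveI : Mono ((DerSch.stalkFunctor U.toScheme ⟨x, hxU⟩).map φ) := inferInstance
  have hinj : Function.Injective ((DerSch.stalkFunctor U.toScheme ⟨x, hxU⟩).map φ).hom :=
    (ModuleCat.mono_iff_injective _).1 inferInstance
  exact (AssLib.mem_ass_pullback_iff U.ι _ _).1
    (associatedPrimes.subset_of_injective (f := ((DerSch.stalkFunctor U.toScheme ⟨x, hxU⟩).map φ).hom) hinj h)

end Groth.Agent.FlatAssocX.AssMono
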