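import Groth.Agent.FlatAssocX.AssTensorProd

/-!
# `T(x, y) = Spec κ(x) ×_S Spec κ(y)` as a fibre of `(X ×_S Y)_x → Y_s`
-/

set_option autoImplicit false
set_option linter.style.haveILetI false

open AlgebraicGeometry CategoryTheory CategoryTheory.Limits IsLocalRing

namespace Groth.Agent.FlatAssocX.AssTensor

universe u

theorem isIso_residueFieldMap {W Z : Scheme.{u}} (i : W ⟶ Z) [IsPreimmersion i] (w : W) :
    IsIso (i.residueFieldMap w) := by
  refine (ConcreteCategory.isIso_iff_bijective _).2 ⟨(i.residueFieldMap w).hom.injective, fun a => ?_⟩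
  obtain ⟨b, rfl⟩ := Ideal.Quotient.mk_surjective a
  obtain ⟨c, rfl⟩ := i.stalkMap_surjective w b
  exact ⟨Z.residue (i w) c, congr($(Scheme.residue_residueFieldMap i w).hom c)⟩

variable {X Y S : Scheme.{u}} (f : X ⟶ S) (g : Y ⟶ S)

/-- The canonical map `T(x, y) ⟶ X ×_S Y`. -/
noncomputable abbrev jT (x : X) (y : Y) :
    pullback (X.fromSpecResidueField x ≫ f) (Y.fromSpecResidueField y ≫ g) ⟶ pullback f g :=
  pullback.map (X.fromSpecResidueField x ≫ f) (Y.fromSpecResidueField y ≫ g) f g (X.fromSpecResidueField x)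
    (Y.fromSpecResidueField y) (𝟙 S) (Category.comp_id _) (Category.comp_id _)

theorem exists_iso_T (x : X) (y' : ↥(g.fiber (f x))) :
    ∃ φ : (fibMap f g x).fiber y' ⟶
        pullback (X.fromSpecResidueField x ≫ f) (Y.fromSpecResidueField (g.fiberι (f x) y') ≫ g),
      IsIso φ ∧
        φ ≫ jT f g x (g.fiberι (f x) y') = (fibMap f g x).fiberι y' ≫ (pullback.fst f g).fiberι x := by
  let y := g.fiberι (f x) y'
  let p := pullback.fst f g
  let h := fibMap f g x
  let r := Spec.map ((g.fiberι (f x)).residueFieldMap y')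
  haveI := isIso_residueFieldMap (g.fiberι (f x)) y'
  have hr : r ≫ Y.fromSpecResidueField y = (g.fiber (f x)).fromSpecResidueField y' ≫ g.fiberι (f x) :=
    Scheme.Hom.SpecMap_residueFieldMap_fromSpecResidueField _ _
  let k : h.fiber y' ⟶ pullback f g := h.fiberι y' ≫ p.fiberι x
  let j := jT f g x y
  have hk1 : (h.fiberι y' ≫ p.fiberToSpecResidueField x) ≫ X.fromSpecResidueField x = k ≫ p := by
    rw [Category.assoc, ← Scheme.Hom.fiber_fac, ← Category.assoc]
  have hk2 : (h.fiberToSpecResidueField y' ≫ r) ≫ Y.fromSpecResidueField y = k ≫ pullback.snd f g := by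
    rw [Category.assoc, hr, ← Category.assoc, ← Scheme.Hom.fiber_fac, Category.assoc, fibMap_ι, ← Category.assoc]
  let φ : h.fiber y' ⟶ pullback (X.fromSpecResidueField x ≫ f) (Y.fromSpecResidueField y ≫ g) :=
    pullback.lift (h.fiberι y' ≫ p.fiberToSpecResidueField x) (h.fiberToSpecResidueField y' ≫ r) (by
      rw [← Category.assoc, hk1, ← Category.assoc (h.fiberToSpecResidueField y' ≫ r), hk2, Category.assoc,
        pullback.condition, Category.assoc]
      simp only [k, Category.assoc])
  have hφ : φ ≫ j = k := by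
    apply pullback.hom_ext
    · rw [Category.assoc, pullback.lift_fst, ← Category.assoc, pullback.lift_fst, hk1]
    · rw [Category.assoc, pullback.lift_snd, ← Category.assoc, pullback.lift_snd, hk2]
  haveI : Mono j := ⟨fun a b hab => by
    apply pullback.hom_ext
    · rw [← cancel_mono (X.fromSpecResidueField x), Category.assoc, Category.assoc]
      have := congrArg (· ≫ pullback.fst f g) hab
      simpa only [j, jT, Category.assoc, pullback.lift_fst] using this
    · rw [← cancel_mono (Y.fromSpecResidueField y), Category.assoc, Category.assoc]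
      have := congrArg (· ≫ pullback.snd f g) hab
      simpa only [j, jT, Category.assoc, pullback.lift_snd] using this⟩
  let jx : pullback (X.fromSpecResidueField x ≫ f) (Y.fromSpecResidueField y ≫ g) ⟶ p.fiber x :=
    pullback.lift j (pullback.fst _ _) (by rw [pullback.lift_fst])
  have hjx : jx ≫ p.fiberι x = j := pullback.lift_fst ..
  let ψ : pullback (X.fromSpecResidueField x ≫ f) (Y.fromSpecResidueField y ≫ g) ⟶ h.fiber y' :=
    pullback.lift jx (pullback.snd _ _ ≫ inv r) (by
      rw [← cancel_mono (g.fiberι (f x)), Category.assoc, fibMap_ι, ← Category.assoc, hjx, pullback.lift_snd,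
        Category.assoc, Category.assoc, ← hr, IsIso.inv_hom_id_assoc])
  have hψ : ψ ≫ k = j := by
    show ψ ≫ h.fiberι y' ≫ p.fiberι x = j
    rw [← Category.assoc, show ψ ≫ h.fiberι y' = jx from pullback.lift_fst .., hjx]
  refine ⟨φ, ⟨⟨ψ, ?_, ?_⟩⟩, hφ⟩
  · rw [← cancel_mono k, Category.assoc, hψ, hφ, Category.id_comp]
  · rw [← cancel_mono j, Category.assoc, hφ, hψ, Category.id_comp]

variable [IsLocallyNoetherian X] [IsLocallyNoetherian Y] [IsLocallyNoetherian (pullback f g)]

theorem mem_ass_tensorS_iff_exists_T (F : X.Modules) {G : Y.Modules} (hGfl : FlatMod.IsFlatOver g G)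
    (z : ↥(pullback f g)) :
    z ∈ AssSch.Ass (CohB1.tensorMod ((Scheme.Modules.pullback (pullback.fst f g)).obj F)
          ((Scheme.Modules.pullback (pullback.snd f g)).obj G)) ↔
      ∃ x ∈ AssSch.Ass F, ∃ y' ∈ AssSch.Ass ((Scheme.Modules.pullback (g.fiberι (f x))).obj G),
        z ∈ ⇑(jT f g x (g.fiberι (f x) y')) '' AssSch.Ass (Coh.structureModule
          (pullback (X.fromSpecResidueField x ≫ f) (Y.fromSpecResidueField (g.fiberι (f x) y') ≫ g))) := by
  constructor
  · intro hz
    obtain ⟨y', v, hzv⟩ : ∃ (y' : ↥(g.fiber (f (pullback.fst f g z))))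
        (v : ↥((fibMap f g (pullback.fst f g z)).fiber y')),
        (pullback.fst f g).fiberι _ ((fibMap f g _).fiberι y' v) = z :=
      ⟨_, (fibMap f g (pullback.fst f g z)).asFiber ((pullback.fst f g).asFiber z), by simp⟩
    generalize pullback.fst f g z = x at y' v hzv
    subst hzv
    obtain ⟨hx, hy, hv⟩ := (mem_ass_tensorS_iff f g F hGfl x y' v).1 hz
    obtain ⟨φ, hφ, e⟩ := exists_iso_T f g x y'
    haveI := isNoetherianRing_stalk_fibre₂ f g x y' v
    haveI : IsNoetherianRing ((pullback (X.fromSpecResidueField x ≫ f)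
        (Y.fromSpecResidueField (g.fiberι (f x) y') ≫ g)).presheaf.stalk (φ v)) :=
      isNoetherianRing_of_ringEquiv _ (asIso (φ.stalkMap v)).commRingCatIsoToRingEquiv.symm
    refine ⟨x, hx, y', hy, φ v, (mem_ass_structure_of_iso φ v).1 hv, ?_⟩
    rw [← Scheme.Hom.comp_apply, e, Scheme.Hom.comp_apply]
  · rintro ⟨x, hx, y', hy, t, ht, rfl⟩
    obtain ⟨φ, hφ, e⟩ := exists_iso_T f g x y'
    obtain ⟨v, rfl⟩ : ∃ v, φ v = t := φ.surjective t
    haveI := isNoetherianRing_stalk_fibre₂ f g x y' v
    haveI : IsNoetherianRing ((pullback (X.fromSpecResidueField x ≫ f)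
        (Y.fromSpecResidueField (g.fiberι (f x) y') ≫ g)).presheaf.stalk (φ v)) :=
      isNoetherianRing_of_ringEquiv _ (asIso (φ.stalkMap v)).commRingCatIsoToRingEquiv.symm
    rw [← Scheme.Hom.comp_apply, e, Scheme.Hom.comp_apply]
    exact (mem_ass_tensorS_iff f g F hGfl x y' v).2 ⟨hx, hy, (mem_ass_structure_of_iso φ v).2 ht⟩

omit [IsLocallyNoetherian X] [IsLocallyNoetherian (pullback f g)] in
/-- For `G` flat over `S`, the associated points of `G` are those of the fibres over associated points. -/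
theorem mem_ass_fibre_point_iff [IsLocallyNoetherian S] {G : Y.Modules} (hGfl : FlatMod.IsFlatOver g G) (s : S)
    (y' : ↥(g.fiber s)) :
    g.fiberι s y' ∈ AssSch.Ass G ↔
      s ∈ AssSch.Ass (Coh.structureModule S) ∧ y' ∈ AssSch.Ass ((Scheme.Modules.pullback (g.fiberι s)).obj G) := by
  rw [← mem_ass_unit_tensor_iff g G, mem_ass_tensor_pullback_iff g _ hGfl]

end Groth.Agent.FlatAssocX.AssTensor
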