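import Groth.Agent.FlatCxLib.HomologyBC
import Groth.Agent.FlatCxLib.Local
import Groth.Agent.FlatCxLib.Field
import Groth.Agent.FlatCxLib.Reduced
import Groth.Agent.FlatCxLib.TFunctor
import Groth.Agent.QCoh.BcT
import Mathlib.RingTheory.Spectrum.Prime.FreeLocus
import Mathlib.RingTheory.Ideal.MinimalPrime.Noetherian

/-!
# Exactness and rank of `T_q` for bounded below complexes of flat modules
-/

universe u

open CategoryTheory Limits TensorProduct

namespace Groth.Agent.FlatAssocX

open FlatCxLib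

variable {A : Type u} [CommRing A] (P : ChainComplex (ModuleCat.{u} A) ℤ)

theorem isZero_T_of_isZero {q : ℤ} (h : IsZero (P.X q)) (M : ModuleCat.{u} A) :
    IsZero (CohIII.T P q M) :=
  (HomologicalComplex.exactAt_iff_isZero_homology _ _).1
    (HomologicalComplex.ExactAt.of_isZero ((MonoidalCategory.tensorRight M).map_isZero h))

/-- Exactness up to `p` by induction, the hypothesis at each step being allowed to use that the
previous cokernel is flat. -/
theorem exact_upTo_of_step (hP : ∀ i, Module.Flat A (P.X i)) {i₀ : ℤ} (hb : ∀ i < i₀, IsZero (P.X i))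
    {p : ℤ} (h : ∀ q ≤ p, Module.Flat A (Coker P q (q - 1)) →
      Module.Flat A (CohIII.T P q (ModuleCat.of A A))) :
    ∀ q ≤ p, (CohIII.TFun P q).PreservesMonomorphisms ∧ (CohIII.TFun P q).PreservesEpimorphisms := by
  have h1 : ∀ q : ℤ, q + 1 = q + 1 := fun _ => rfl
  have h0 : ∀ q : ℤ, q - 1 + 1 = q := fun q => by lia
  have step : ∀ q ≤ p, (CohIII.TFun P q).PreservesEpimorphisms →
      (CohIII.TFun P q).PreservesMonomorphisms := fun q hq he =>
    ((exact_iff hP (h1 q) (h0 q)).2 ⟨he, h q hq ((preservesEpi_iff hP (h0 q)).1 he)⟩).1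
  have main : ∀ n : ℕ, i₀ - 1 + n ≤ p + 1 → (CohIII.TFun P (i₀ - 1 + n)).PreservesEpimorphisms := by
    intro n
    induction n with
    | zero =>
      intro _
      exact ⟨fun {M M'} g _ => ⟨fun a b _ => (isZero_T_of_isZero P (hb _ (by lia)) M').eq_of_src a b⟩⟩
    | succ n ih =>
      intro hn
      push_cast at hn
      exact (preservesEpi_iff_preservesMono hP
        (show (i₀ - 1 + n) + 1 = i₀ - 1 + (n + 1 : ℕ) by push_cast; ring)).2
          (step _ (by lia) (ih (by lia)))
  intro q hq
  have he : (CohIII.TFun P q).PreservesEpimorphisms := by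
    by_cases hlt : q < i₀
    · exact ⟨fun {M M'} g _ => ⟨fun a b _ => (isZero_T_of_isZero P (hb _ hlt) M').eq_of_src a b⟩⟩
    · obtain ⟨n, rfl⟩ : ∃ n : ℕ, q = i₀ - 1 + n := ⟨(q - i₀ + 1).toNat, by lia⟩
      exact main n (by lia)
  exact ⟨step q hq he, he⟩

variable {P}

theorem dRank_eq_of_exact_local [IsLocalRing A] (hP : ∀ i, Module.Flat A (P.X i)) {q : ℤ}
    [Module.FinitePresentation A (CohIII.T P q (ModuleCat.of A A))]
    (h : (CohIII.TFun P q).PreservesMonomorphisms ∧ (CohIII.TFun P q).PreservesEpimorphisms)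
    (x : PrimeSpectrum A) : CohIII.dRank P q x = CohIII.dRank P q (IsLocalRing.closedPoint A) := by
  have h1 : q + 1 = q + 1 := rfl
  have h0 : q - 1 + 1 = q := by lia
  obtain ⟨he, hfl⟩ := (exact_iff hP h1 h0).1 h
  have := (preservesEpi_iff hP h0).1 he
  let e := hom'EquivT (P := P) h1 h0
  have : Module.Flat A (Hom' P (q + 1) q (q - 1)) := Module.Flat.of_linearEquiv e
  have : Module.FinitePresentation A (Hom' P (q + 1) q (q - 1)) := Module.FinitePresentation.of_equiv e.symm
  rw [dRank_eq_fibreRank P hP h1 h0, dRank_eq_fibreRank P hP h1 h0]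
  exact fibreRank_eq_of_specializes (IsLocalRing.specializes_closedPoint x)

theorem flat_T_of_dRank_eq [IsLocalRing A] [IsReduced A] (hP : ∀ i, Module.Flat A (P.X i)) {q : ℤ}
    [Module.Finite A (CohIII.T P q (ModuleCat.of A A))] (hflat : Module.Flat A (Coker P q (q - 1)))
    (h : ∀ x : PrimeSpectrum A, x.asIdeal ∈ minimalPrimes A →
      CohIII.dRank P q x = CohIII.dRank P q (IsLocalRing.closedPoint A)) :
    Module.Flat A (CohIII.T P q (ModuleCat.of A A)) := by
  have h1 : q + 1 = q + 1 := rfl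
  have h0 : q - 1 + 1 = q := by lia
  let e := hom'EquivT (P := P) h1 h0
  have : Module.Finite A (Hom' P (q + 1) q (q - 1)) := Module.Finite.equiv e.symm
  have := free_of_fibreRank_eq (Hom' P (q + 1) q (q - 1)) fun x hx => by
    rw [← dRank_eq_fibreRank P hP h1 h0, ← dRank_eq_fibreRank P hP h1 h0]
    exact h x hx
  exact Module.Flat.of_linearEquiv e.symm

variable {B : Type u} [CommRing B]

theorem nonempty_T_bcCx_equiv_aux (φ : A →+* B) (q : ℤ) (inst : Algebra A B) (hinst : inst = φ.toAlgebra)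
    (hflat : letI := inst; Module.Flat A B) :
    letI := inst
    Nonempty (B ⊗[A] CohIII.T P q (ModuleCat.of A A) ≃ₗ[B] CohIII.T (CohIII.bcCx φ P) q (ModuleCat.of B B)) := by
  subst hinst
  let := φ.toAlgebra
  exact ⟨(AlgebraTensorModule.congr (LinearEquiv.refl B B) (tUnitIso (P := P) q).toLinearEquiv).trans
    ((homologyExtendScalarsIso φ hflat P q).symm ≪≫ (tUnitIso (P := CohIII.bcCx φ P) q).symm).toLinearEquiv⟩

theorem nonempty_T_bcCx_equiv [Algebra A B] [Module.Flat A B] (q : ℤ) :
    Nonempty (B ⊗[A] CohIII.T P q (ModuleCat.of A A) ≃ₗ[B]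
      CohIII.T (CohIII.bcCx (algebraMap A B) P) q (ModuleCat.of B B)) :=
  nonempty_T_bcCx_equiv_aux (algebraMap A B) q _ (Algebra.algebra_ext _ _ fun _ => rfl) inferInstance

/-- Over a domain, a finitely presented module becomes flat on some `D(f)`, `f ≠ 0`. -/
theorem exists_ne_zero_flat_away [IsDomain A] (M : Type u) [AddCommGroup M] [Module A M]
    [Module.FinitePresentation A M] :
    ∃ f : A, f ≠ 0 ∧ ∀ g : A, f ∣ g → Module.Flat (Localization.Away g) (Localization.Away g ⊗[A] M) := by
  have hgen : (⟨⊥, Ideal.isPrime_bot⟩ : PrimeSpectrum A) ∈ Module.freeLocus A M := by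
    have : IsLocalization.AtPrime (FractionRing A)
        (⟨⊥, Ideal.isPrime_bot⟩ : PrimeSpectrum A).asIdeal := by
      delta IsLocalization.AtPrime
      convert (inferInstance : IsLocalization (nonZeroDivisors A) (FractionRing A)) using 1
      ext x
      simp [Ideal.primeCompl]
    exact (Module.mem_freeLocus_iff_tensor _ (FractionRing A)).2 (Module.Free.of_divisionRing _ _)
  obtain ⟨_, ⟨f, rfl⟩, hf, hfU⟩ :=
    PrimeSpectrum.isTopologicalBasis_basic_opens.exists_subset_of_mem_open hgen Module.isOpen_freeLocus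
  refine ⟨f, fun h => hf (by simp [h]), fun g hg => ?_⟩
  have hgU : ↑(PrimeSpectrum.basicOpen g) ⊆ Module.freeLocus A M := fun x hx =>
    hfU (fun hfx => hx (x.asIdeal.mem_of_dvd hg hfx))
  have := Module.basicOpen_subset_freeLocus_iff.1 hgU
  exact Module.Flat.of_linearEquiv
    (LocalizedModule.equivTensorProduct (Submonoid.powers g) M).symm

/-- Over a domain, `T_q` is exact for all `q ≤ N` on some `D(f)`. -/
theorem exists_away_exact_upTo [IsDomain A] (hP : ∀ i, Module.Flat A (P.X i)) {i₀ : ℤ}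
    (hb : ∀ i < i₀, IsZero (P.X i))
    (hfp : ∀ n : ℤ, Module.FinitePresentation A (CohIII.T P n (ModuleCat.of A A))) (N : ℤ) :
    ∃ f : A, f ≠ 0 ∧ ∀ p ≤ N,
      (CohIII.TFun (CohIII.bcCx (algebraMap A (Localization.Away f)) P) p).PreservesMonomorphisms ∧
        (CohIII.TFun (CohIII.bcCx (algebraMap A (Localization.Away f)) P) p).PreservesEpimorphisms := by
  have hex : ∀ n : ℤ, ∃ f : A, f ≠ 0 ∧ ∀ g : A, f ∣ g → Module.Flat (Localization.Away g)
      (Localization.Away g ⊗[A] CohIII.T P n (ModuleCat.of A A)) := fun n => by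
    have := hfp n
    exact exists_ne_zero_flat_away _
  choose F hF0 hF using hex
  refine ⟨∏ n ∈ Finset.Icc i₀ N, F n, Finset.prod_ne_zero_iff.2 fun n _ => hF0 n, ?_⟩
  let g := ∏ n ∈ Finset.Icc i₀ N, F n
  refine exact_upTo_of_step _ (flat_bcCx_X P hP) (i₀ := i₀)
    (fun i hi => (ModuleCat.extendScalars _).map_isZero (hb i hi)) fun q hq _ => ?_
  obtain ⟨e⟩ := nonempty_T_bcCx_equiv (P := P) (B := Localization.Away g) q
  by_cases hlt : q < i₀
  · have := ModuleCat.subsingleton_of_isZero (isZero_T_of_isZero P (hb q hlt) (ModuleCat.of A A))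
    exact Module.Flat.of_linearEquiv e.symm
  · have := hF q g (Finset.dvd_prod_of_mem F (Finset.mem_Icc.2 ⟨not_lt.1 hlt, hq⟩))
    exact Module.Flat.of_linearEquiv e.symm

section Finite

variable [IsNoetherianRing A]

theorem finite_T_of_finite (hP : ∀ i, Module.Flat A (P.X i)) {i₀ : ℤ} (hb : ∀ i < i₀, IsZero (P.X i))
    (hfg : ∀ n : ℤ, Module.Finite A (CohIII.T P n (ModuleCat.of A A))) :
    ∀ (n : ℤ) (M : ModuleCat.{u} A), Module.Finite A M → Module.Finite A (CohIII.T P n M) := by
  have zero : ∀ n < i₀, ∀ M : ModuleCat.{u} A, Module.Finite A (CohIII.T P n M) := fun n hn M => by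
    have := ModuleCat.subsingleton_of_isZero (isZero_T_of_isZero P (hb n hn) M)
    infer_instance
  suffices key : ∀ (k : ℕ) (M : ModuleCat.{u} A), Module.Finite A M →
      Module.Finite A (CohIII.T P (i₀ - 1 + k) M) by
    intro n M hM
    by_cases hn : n < i₀
    · exact zero n hn M
    · obtain ⟨k, rfl⟩ : ∃ k : ℕ, n = i₀ - 1 + k := ⟨(n - i₀ + 1).toNat, by lia⟩
      exact key k M hM
  intro k
  induction k with
  | zero => exact fun M _ => zero _ (by lia) M
  | succ k ih =>
    intro M hM
    let n : ℤ := i₀ - 1 + (k + 1 : ℕ)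
    obtain ⟨r, f, hf⟩ := Module.Finite.exists_fin' A M
    let F := ModuleCat.of A (Fin r → A)
    have hFfin : Module.Finite A (CohIII.T P n F) := by
      let ι : Fin r → (ModuleCat.of A A ⟶ F) := fun i => ModuleCat.ofHom (LinearMap.single A (fun _ => A) i)
      let π : Fin r → (F ⟶ ModuleCat.of A A) := fun i => ModuleCat.ofHom (LinearMap.proj i)
      have hid : ∑ i, π i ≫ ι i = 𝟙 F := by
        refine ModuleCat.hom_ext (LinearMap.ext fun x => ?_)
        simp only [ModuleCat.hom_sum, ModuleCat.hom_comp, LinearMap.coe_sum, Finset.sum_apply]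
        exact Finset.univ_sum_single x
      let Φ : (Fin r → CohIII.T P n (ModuleCat.of A A)) →ₗ[A] CohIII.T P n F :=
        ∑ i, ((CohIII.TFun P n).map (ι i)).hom ∘ₗ LinearMap.proj i
      have := hfg n
      refine Module.Finite.of_surjective Φ fun y => ⟨fun i => ((CohIII.TFun P n).map (π i)).hom y, ?_⟩
      have h2 : ∑ i, (CohIII.TFun P n).map (π i) ≫ (CohIII.TFun P n).map (ι i) = 𝟙 _ := by
        simp only [← Functor.map_comp]
        rw [← Functor.map_sum, hid, CategoryTheory.Functor.map_id]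
      have h3 := LinearMap.congr_fun (congrArg ModuleCat.Hom.hom h2) y
      rw [ModuleCat.hom_sum] at h3
      erw [LinearMap.sum_apply] at h3
      exact (LinearMap.sum_apply _ _ _).trans h3
    let K := ModuleCat.of A (LinearMap.ker f)
    have hKfin : Module.Finite A (CohIII.T P (i₀ - 1 + k) K) :=
      ih K (Module.Finite.iff_fg.2 (IsNoetherian.noetherian _))
    have hz : ModuleCat.ofHom (LinearMap.ker f).subtype ≫ ModuleCat.ofHom f = (0 : K ⟶ M) :=
      ModuleCat.hom_ext (LinearMap.ext fun x => x.2)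
    let S : ShortComplex (ModuleCat.{u} A) := ShortComplex.mk _ _ hz
    have hS : S.ShortExact :=
      { exact := (ShortComplex.ShortExact.moduleCat_exact_iff_function_exact S).2
          (LinearMap.exact_subtype_ker_map f)
        mono_f := (ModuleCat.mono_iff_injective _).2 Subtype.val_injective
        epi_g := (ModuleCat.epi_iff_surjective _).2 hf }
    have hT := shortExact_tensorSC hP hS
    have hrel : (ComplexShape.down ℤ).Rel n (i₀ - 1 + k) := by
      show (i₀ - 1 + k) + 1 = i₀ - 1 + (k + 1 : ℕ)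
      push_cast; ring
    have hex := (ShortComplex.ShortExact.moduleCat_exact_iff_function_exact _).1
      (hT.homology_exact₃ n (i₀ - 1 + k) hrel)
    let g₁ : CohIII.T P n F →ₗ[A] CohIII.T P n M :=
      (HomologicalComplex.homologyMap (tensorSC P S).g n).hom
    let g₂ : CohIII.T P n M →ₗ[A] CohIII.T P (i₀ - 1 + k) K := (hT.δ n (i₀ - 1 + k) hrel).hom
    have : IsNoetherian A (CohIII.T P n F) := isNoetherian_of_isNoetherianRing_of_finite A _
    have : IsNoetherian A (CohIII.T P (i₀ - 1 + k) K) := isNoetherian_of_isNoetherianRing_of_finite A _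
    have : IsNoetherian A (CohIII.T P n M) :=
      isNoetherian_of_range_eq_ker g₁ g₂ (LinearMap.exact_iff.1 hex).symm
    exact (inferInstance : Module.Finite A (CohIII.T P n M))

omit [IsNoetherianRing A] in
theorem finite_T_bcCx (φ : A →+* B) (n : ℤ)
    (h : Module.Finite A (CohIII.T P n ((ModuleCat.restrictScalars φ).obj (ModuleCat.of B B)))) :
    Module.Finite B (CohIII.T (CohIII.bcCx φ P) n (ModuleCat.of B B)) := by
  obtain ⟨e⟩ := QCoh.nonempty_bcT_iso P φ n
  let T' := CohIII.T (CohIII.bcCx φ P) n (ModuleCat.of B B)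
  let T₀ := CohIII.T P n ((ModuleCat.restrictScalars φ).obj (ModuleCat.of B B))
  let ε : T' ≃+ T₀ := (e.app (ModuleCat.of B B)).addCommGroupIsoToAddEquiv
  have key : ∀ (a : A) (x : T'), ε (φ a • x) = a • ε x := by
    intro a x
    rw [← QCoh.tfun_map_smul (P := CohIII.bcCx φ P) n (ModuleCat.of B B) (φ a) x]
    refine Eq.trans (ConcreteCategory.congr_hom
      (e.hom.naturality (ModuleCat.ofHom (φ a • LinearMap.id : B →ₗ[B] B) :
        ModuleCat.of B B ⟶ ModuleCat.of B B)) x) ?_
    exact QCoh.tfun_map_smul (P := P) n _ a _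
  obtain ⟨s, hs⟩ := h.fg_top
  classical
  refine ⟨⟨s.image ε.symm, eq_top_iff.2 fun x _ => ?_⟩⟩
  have : ε x ∈ Submodule.span A (s : Set T₀) := hs ▸ trivial
  suffices h' : ∀ y ∈ Submodule.span A (s : Set T₀), ε.symm y ∈
      Submodule.span B ((s.image ε.symm : Finset T') : Set T') by
    simpa using h' _ this
  intro y hy
  induction hy using Submodule.span_induction with
  | mem y hy => exact Submodule.subset_span (Finset.mem_image_of_mem _ hy)
  | zero => rw [map_zero]; exact zero_mem _
  | add y z _ _ hy hz => rw [map_add]; exact add_mem hy hz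
  | smul a y _ hy =>
    have : ε.symm (a • y) = φ a • ε.symm y := ε.injective (by rw [key, ε.apply_symm_apply, ε.apply_symm_apply])
    rw [this]; exact Submodule.smul_mem _ _ hy

end Finite

end Groth.Agent.FlatAssocX
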