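import Groth.Agent.RingPO.Tensor

/-!
# Base change of a fibre product whose projection stays injective
-/

set_option autoImplicit false

universe u

open TensorProduct RingPO

namespace Groth.Agent.FlatAssocX

variable {R A A' B C : Type u} [CommRing R] [CommRing A] [CommRing A'] [CommRing B] [CommRing C]
  [Algebra R A] [Algebra R A'] [Algebra R B] [Algebra R C]
variable {p : A' →ₐ[R] A} {q : B →ₐ[R] A} {α : C →ₐ[R] A'} {β : C →ₐ[R] B}

/-- If `q` is injective and its cokernel is projective, `α` has a linear retraction. -/
theorem rTensor_injective_of_projective_coker (h : IsFibreProd p.toRingHom q.toRingHom α.toRingHom β.toRingHom)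
    (hq : Function.Injective q) [Module.Projective R (A ⧸ LinearMap.range q.toLinearMap)] (R' : Type u)
    [AddCommGroup R'] [Module R R'] : Function.Injective (α.toLinearMap.rTensor R') := by
  let π := (LinearMap.range q.toLinearMap).mkQ ∘ₗ p.toLinearMap
  have hπ : Function.Surjective π := (Submodule.mkQ_surjective _).comp h.surj
  have hαinj : Function.Injective α := fun z z' hz =>
    h.ext z z' hz (hq (by
      have h1 := h.comm z
      have h2 := h.comm z'
      rw [show α.toRingHom z = α.toRingHom z' from hz] at h1
      exact h1.symm.trans h2))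
  have hex : Function.Exact α.toLinearMap π := by
    intro y
    constructor
    · intro hy
      obtain ⟨b, hb⟩ := (Submodule.Quotient.mk_eq_zero _).1 hy
      obtain ⟨z, h1, -⟩ := h.exists_of_eq b y hb.symm
      exact ⟨z, h1⟩
    · rintro ⟨z, rfl⟩
      exact (Submodule.Quotient.mk_eq_zero _).2 ⟨β z, (h.comm z).symm⟩
  haveI : Module.Flat R (A ⧸ LinearMap.range q.toLinearMap) := inferInstance
  rw [← LinearMap.lTensor_inj_iff_rTensor_inj]
  exact LinearMap.lTensor_injective_of_exact_of_flat π hπ α.toLinearMap hαinj hex R'

/-- Base change of a fibre product. -/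
theorem isFibreProd_tensor (h : IsFibreProd p.toRingHom q.toRingHom α.toRingHom β.toRingHom) (R' : Type u)
    [CommRing R'] [Algebra R R'] (hα : Function.Injective (α.toLinearMap.rTensor R')) :
    IsFibreProd (Algebra.TensorProduct.map p (AlgHom.id R R')).toRingHom
      (Algebra.TensorProduct.map q (AlgHom.id R R')).toRingHom
      (Algebra.TensorProduct.map α (AlgHom.id R R')).toRingHom
      (Algebra.TensorProduct.map β (AlgHom.id R R')).toRingHom := by
  obtain ⟨h1, h2, h3⟩ := h.exact_diff
  set ι := α.toLinearMap.prod β.toLinearMap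
  set d := p.toLinearMap ∘ₗ LinearMap.fst R A' B - q.toLinearMap ∘ₗ LinearMap.snd R A' B with hd'
  have hι : Function.Injective (ι.rTensor R') := by
    have : α.toLinearMap.rTensor R' = (LinearMap.fst R A' B).rTensor R' ∘ₗ ι.rTensor R' := by
      rw [← LinearMap.rTensor_comp]; rfl
    intro z z' hz
    exact hα (by rw [this, LinearMap.comp_apply, LinearMap.comp_apply, hz])
  let e := TensorProduct.prodLeft R R A' B R'
  have he : ∀ z, e (ι.rTensor R' z) = (Algebra.TensorProduct.map α (AlgHom.id R R') z,
      Algebra.TensorProduct.map β (AlgHom.id R R') z) := by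
    intro z
    induction z using TensorProduct.induction_on with
    | zero => simp only [map_zero]; rfl
    | tmul c r => rfl
    | add x y hx hy => simp only [map_add, hx, hy, Prod.mk_add_mk]
  have hd : ∀ y, d.rTensor R' y = Algebra.TensorProduct.map p (AlgHom.id R R') (e y).1 -
      Algebra.TensorProduct.map q (AlgHom.id R R') (e y).2 := by
    intro y
    induction y using TensorProduct.induction_on with
    | zero => simp
    | tmul c r =>
      show (p c.1 - q c.2) ⊗ₜ[R] r = p c.1 ⊗ₜ[R] r - q c.2 ⊗ₜ[R] r
      exact TensorProduct.sub_tmul _ _ _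
    | add x y hx hy =>
      simp only [map_add, hx, hy, Prod.fst_add, Prod.snd_add]
      abel
  have hex := rTensor_exact R' h3 h2
  refine ⟨?_, fun z => ?_, fun z z' hz hz' => hι (e.injective ?_), fun b a hab => ?_⟩
  · intro x
    induction x using TensorProduct.induction_on with
    | zero => exact ⟨0, map_zero _⟩
    | tmul c r =>
      obtain ⟨a, ha⟩ := h.surj c
      exact ⟨a ⊗ₜ r, show p a ⊗ₜ[R] r = c ⊗ₜ[R] r from congrArg (· ⊗ₜ[R] r) ha⟩
    | add x y hx hy =>
      obtain ⟨a, ha⟩ := hx
      obtain ⟨b, hb⟩ := hy
      exact ⟨a + b, by rw [map_add, ha, hb]⟩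
  · have h0 : d.rTensor R' (ι.rTensor R' z) = 0 := hex.apply_apply_eq_zero z
    rw [hd, he, sub_eq_zero] at h0
    exact h0
  · rw [he, he]; exact Prod.ext hz hz'
  · obtain ⟨z, hz⟩ := (hex (e.symm (a, b))).mp (by
      rw [hd, LinearEquiv.apply_symm_apply, sub_eq_zero]; exact hab)
    have := he z
    rw [hz, LinearEquiv.apply_symm_apply] at this
    exact ⟨z, (congrArg Prod.fst this).symm, (congrArg Prod.snd this).symm⟩

end Groth.Agent.FlatAssocX
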