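import Groth.Agent.FlatAssocX.PureSub
import Groth.Agent.QCoh.LocFree
import Groth.Agent.QCoh.Qcqs
import Groth.Agent.QCoh.Pullback
import Groth.Agent.QCoh.VanIdeal
import Groth.Agent.FlatCxLib.Rank

/-!
# Flat modules of finite type and generalization-stable closed sets
-/

set_option autoImplicit false
set_option backward.isDefEq.respectTransparency false
set_option backward.isDefEq.respectTransparency.types false

universe u

open CategoryTheory AlgebraicGeometry TopologicalSpace

namespace Groth.Agent.FlatAssocX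

theorem rankAtStalk_eq_fibreRank {R : Type u} [CommRing R] (N : Type u) [AddCommGroup N] [Module R N]
    [Module.Finite R N] [Module.Flat R N] :
    Module.rankAtStalk (R := R) N = FlatCxLib.fibreRank (A := R) N :=
  funext fun p => (FlatCxLib.fibreRank_eq_rankAtStalk N p).symm

variable {X : Scheme.{u}}

theorem isFinLocFree_of_flat (hX : ∀ Z : Set ↑X, IsClosed Z → StableUnderGeneralization Z → IsOpen Z)
    {M : X.Modules} (hM : Coh.IsQCoh M) (hft : CohB1.IsFT M) (hfl : FlatMod.IsFlat M) :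
    FlatMod.IsFinLocFree M := by
  have hfree : ∀ x : X, Module.Free (X.presheaf.stalk x) (M.presheaf.stalk x) := fun x => by
    haveI := QCoh.finite_stalk_of_isFT hM hft x
    haveI : Module.Flat (X.presheaf.stalk x) (M.presheaf.stalk x) := hfl x
    exact Module.free_of_flat_of_isLocalRing
  refine QCoh.isFinLocFree_of_rank hM hft hfree ?_
  let r := fun x : X => Module.finrank (X.presheaf.stalk x) (M.presheaf.stalk x)
  -- per affine open: semicontinuity and constancy along generizations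
  have key : ∀ (U : X.affineOpens) (n : ℕ),
      IsClosed {p : PrimeSpectrum Γ(X, U.1) | n ≤ Module.rankAtStalk (R := Γ(X, U.1)) Γ(M, U.1) p} ∧
      StableUnderGeneralization
        {p : PrimeSpectrum Γ(X, U.1) | n ≤ Module.rankAtStalk (R := Γ(X, U.1)) Γ(M, U.1) p} := by
    intro U n
    haveI := QCoh.finite_of_isFT hM hft U.2
    haveI : Module.Flat Γ(X, U.1) Γ(M, U.1) := (QCoh.isFlat_iff hM).1 hfl U
    constructor
    · have h := upperSemicontinuous_iff_isClosed_preimage.1
        (FlatCxLib.upperSemicontinuous_fibreRank (A := Γ(X, U.1)) Γ(M, U.1)) n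
      rwa [← rankAtStalk_eq_fibreRank] at h
    · intro p q hqp hp
      simp only [Set.mem_ofPred_eq] at hp ⊢
      rwa [Module.rankAtStalk_eq_of_le_of_finite_of_flat (M := Γ(M, U.1)) ((PrimeSpectrum.le_iff_specializes q p).2 hqp)]
  have hx0 : ∀ (U : X.affineOpens) (x : X) (hx : x ∈ U.1),
      Module.rankAtStalk (R := Γ(X, U.1)) Γ(M, U.1) (U.2.primeIdealOf ⟨x, hx⟩) = r x :=
    fun U x hx => QCoh.rankAtStalk_eq_finrank hM U.2 hx
  have hopen : ∀ n : ℕ, IsOpen {x : X | n ≤ r x} ∧ IsClosed {x : X | n ≤ r x} := by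
    intro n
    have hcl : IsClosed {x : X | n ≤ r x} := by
      rw [IsOpenCover.isClosed_iff_coe_preimage (iSup_affineOpens_eq_top X)]
      intro U
      have : Continuous fun y : U.1 => U.2.primeIdealOf y := by
        exact (U.2.isoSpec.hom).continuous
      convert ((key U n).1.preimage this) using 1
      ext ⟨y, hy⟩
      simp only [Set.mem_preimage, Set.mem_ofPred_eq, hx0]
    refine ⟨hX _ hcl fun x y hyx hx => ?_, hcl⟩
    obtain ⟨U, hU, hxU, -⟩ := exists_isAffineOpen_mem_and_subset (x := x) (U := ⊤) trivial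
    have hyU : y ∈ U := hyx.mem_open U.2 hxU
    simp only [Set.mem_ofPred_eq, ← hx0 ⟨U, hU⟩ _ hxU, ← hx0 ⟨U, hU⟩ _ hyU] at hx ⊢
    refine (key ⟨U, hU⟩ n).2 ?_ hx
    refine hU.fromSpec.isOpenEmbedding.isInducing.specializes_iff.1 ?_
    rwa [hU.fromSpec_primeIdealOf, hU.fromSpec_primeIdealOf]
  refine (IsLocallyConstant.iff_exists_open _).2 fun x => ?_
  refine ⟨{y | r x ≤ r y} ∩ {y | r x + 1 ≤ r y}ᶜ, (hopen _).1.inter (hopen _).2.isOpen_compl,
    ⟨le_refl (r x), fun h : r x + 1 ≤ r x => by omega⟩, ?_⟩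
  rintro y ⟨h1, h2⟩
  simp only [Set.mem_ofPred_eq, Set.mem_compl_iff] at h1 h2
  change r y = r x
  omega

theorem isOpen_of_forall_flat
    (h : ∀ F : X.Modules, Coh.IsQCoh F → CohB1.IsFT F → FlatMod.IsFlat F → FlatMod.IsFinLocFree F)
    (Z : Set ↑X) (hZ : IsClosed Z) (hg : StableUnderGeneralization Z) : IsOpen Z := by
  obtain ⟨I, hI, hIZ⟩ := exists_pure_of_stable ⟨Z, hZ⟩ hg
  let M := (Scheme.Modules.pushforward I.subschemeι).obj (Coh.structureModule I.subscheme)
  have hM : Coh.IsQCoh M := QCoh.isQCoh_pushforward _ QCoh.isQCoh_structureModule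
  have e : ∀ U : X.affineOpens, Nonempty ((Γ(X, U.1) ⧸ I.ideal U) ≃ₗ[Γ(X, U.1)] Γ(M, U.1)) := by
    intro U
    letI : Algebra Γ(X, U.1) Γ(I.subscheme, I.subschemeι ⁻¹ᵁ U.1) := (I.subschemeι.app U.1).hom.toAlgebra
    let l : Γ(X, U.1) →ₗ[Γ(X, U.1)] Γ(M, U.1) :=
      { toFun := fun a => (I.subschemeι.app U.1).hom a
        map_add' := fun a b => map_add _ a b
        map_smul' := fun a b => map_mul (I.subschemeι.app U.1).hom a b }
    have hk : l.ker = I.ideal U := by
      rw [← I.ker_subschemeι_app U]; rfl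
    exact ⟨(Submodule.quotEquivOfEq _ _ hk.symm).trans
      (l.quotKerEquivOfSurjective (I.subschemeι_app_surjective U))⟩
  have hfin : CohB1.IsFT M := (QCoh.isFT_iff hM).2 fun U => Module.Finite.equiv (e U).some
  have hflat : FlatMod.IsFlat M := (QCoh.isFlat_iff hM).2 fun U =>
    haveI : Module.Flat Γ(X, U.1) (Γ(X, U.1) ⧸ I.ideal U) := hI U
    Module.Flat.of_linearEquiv (e U).some.symm
  have hlf := h M hM hfin hflat
  have hZeq : Z = (fun x : X => Module.finrank (X.presheaf.stalk x) (M.presheaf.stalk x)) ⁻¹' {0}ᶜ := by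
    ext x
    obtain ⟨U, hU, hxU, -⟩ := exists_isAffineOpen_mem_and_subset (x := x) (U := ⊤) trivial
    have h1 : x ∈ Z ↔ x ∈ CohB1.support M := by
      rw [show x ∈ Z ↔ x ∈ I.support by rw [hIZ]; rfl, mem_support_iff_le (U := ⟨U, hU⟩) hxU,
        ← QCoh.mem_moduleSupport_iff hM hU hxU, ← (e ⟨U, hU⟩).some.support_eq,
        Module.support_eq_zeroLocus, Ideal.annihilator_quotient]
      rfl
    rw [h1]
    haveI := QCoh.free_stalk_of_isFinLocFree hlf x
    haveI := QCoh.finite_stalk_of_isFT hM hfin x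
    show ¬ Subsingleton _ ↔ _
    rw [← Module.finrank_eq_zero_iff_of_free (R := X.presheaf.stalk x) (M := M.presheaf.stalk x)]
    rfl
  rw [hZeq]
  exact QCoh.isLocallyConstant_rank hlf {0}ᶜ

end Groth.Agent.FlatAssocX
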