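import Mathlib.Algebra.Category.ModuleCat.ChangeOfRings
import Mathlib.Algebra.Category.ModuleCat.EpiMono
import Mathlib.Algebra.Category.ModuleCat.Colimits
import Mathlib.Algebra.Category.ModuleCat.FilteredColimits
import Mathlib.Algebra.Module.LocalizedModule.Basic
import Mathlib.Algebra.Homology.ShortComplex.ExactFunctor
import Mathlib.Algebra.Homology.ShortComplex.ModuleCat
import Mathlib.CategoryTheory.Linear.LinearFunctor
import Mathlib.RingTheory.LocalProperties.Exactness
import Mathlib.RingTheory.Localization.BaseChange
import Mathlib.RingTheory.Flat.Localization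
import Groth.Agent.FlatCxLib.Field

/-!
# Linear functors preserving filtered colimits commute with localization
-/

set_option linter.style.haveILetI false

universe u

open CategoryTheory CategoryTheory.Limits

namespace Groth.Agent.FlatAssocX

variable {A : Type u} [CommRing A]

/-- The index category of a localization: objects are elements of `S`, a map `s ⟶ t` is `r ∈ S`
with `s * r = t`. -/
@[ext]
structure LocIx (S : Submonoid A) : Type u where
  el : S

namespace LocIx

variable {S : Submonoid A}

instance category : SmallCategory (LocIx S) where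
  Hom s t := {r : S // s.el * r = t.el}
  id s := ⟨1, mul_one _⟩
  comp f g := ⟨f.1 * g.1, by rw [← mul_assoc, f.2, g.2]⟩
  id_comp f := Subtype.ext (one_mul _)
  comp_id f := Subtype.ext (mul_one _)
  assoc f g h := Subtype.ext (mul_assoc _ _ _)

theorem isFiltered (S : Submonoid A) : IsFiltered (LocIx S) :=
  { cocone_objs := fun s t => ⟨⟨s.el * t.el⟩, ⟨t.el, rfl⟩, ⟨s.el, mul_comm _ _⟩, trivial⟩
    cocone_maps := fun s t f g => ⟨⟨t.el * s.el⟩, ⟨s.el, rfl⟩, Subtype.ext (by
      show f.1 * s.el = g.1 * s.el
      rw [mul_comm, f.2, mul_comm, g.2])⟩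
    nonempty := ⟨⟨1⟩⟩ }

variable (S) (M : ModuleCat.{u} A)

/-- Multiplication by the transition elements. -/
def diagram : LocIx S ⥤ ModuleCat.{u} A where
  obj _ := M
  map f := ((f.1 : S) : A) • 𝟙 M
  map_id s := by
    show ((1 : S) : A) • 𝟙 M = 𝟙 M
    rw [OneMemClass.coe_one, one_smul]
  map_comp f g := by
    show ((f.1 * g.1 : S) : A) • 𝟙 M = _
    rw [Submonoid.coe_mul, Linear.smul_comp, Category.id_comp, smul_smul]

theorem diagram_map_apply {s t : LocIx S} (f : s ⟶ t) (x : M) :
    ((diagram S M).map f).hom x = ((f.1 : S) : A) • x :=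
  rfl

variable {M} {M' : ModuleCat.{u} A} (g : M ⟶ M') [IsLocalizedModule S g.hom]

/-- The stage maps `m ↦ m / s`. -/
noncomputable def leg (s : LocIx S) : M ⟶ M' :=
  ModuleCat.ofHom
    { toFun := fun m => IsLocalizedModule.mk' g.hom m s.el
      map_add' := fun a b => IsLocalizedModule.mk'_add g.hom a b s.el
      map_smul' := fun a b => IsLocalizedModule.mk'_smul g.hom a b s.el }

theorem leg_comp (s : LocIx S) : leg S g s ≫ ((s.el : A) • 𝟙 M') = g := by
  ext m
  exact IsLocalizedModule.mk'_cancel' g.hom m s.el

/-- The cocone of a localization. -/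
noncomputable def cocone : Cocone (diagram S M) where
  pt := M'
  ι :=
    { app := leg S g
      naturality := fun s t f => by
        ext m
        show IsLocalizedModule.mk' g.hom (((f.1 : S) : A) • m) t.el = IsLocalizedModule.mk' g.hom m s.el
        rw [← IsLocalizedModule.mk'_cancel_right g.hom m s.el f.1]
        congr 1
        exact f.2.symm }

/-- A localization is a filtered colimit of copies of the module. -/
noncomputable def isColimit : IsColimit (cocone S g) :=
  haveI := isFiltered S
  isColimitOfReflects (forget (ModuleCat.{u} A))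
    (Types.FilteredColimit.isColimitOf' _ _
      (fun x => by
        obtain ⟨⟨m, s⟩, rfl⟩ := IsLocalizedModule.mk'_surjective S g.hom x
        exact ⟨⟨s⟩, m, rfl⟩)
      (fun i x y h => by
        have h' : IsLocalizedModule.mk' g.hom x i.el = IsLocalizedModule.mk' g.hom y i.el := h
        obtain ⟨c, hc⟩ := (IsLocalizedModule.mk'_eq_mk'_iff g.hom x y i.el i.el).1 h'
        exact ⟨⟨i.el * (c * i.el)⟩, ⟨c * i.el, rfl⟩, by
          show ((c * i.el : S) : A) • x = ((c * i.el : S) : A) • y
          simp only [Submonoid.smul_def] at hc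
          rw [Submonoid.coe_mul, mul_smul, mul_smul]
          exact hc.symm⟩))

end LocIx

variable (T : ModuleCat.{u} A ⥤ ModuleCat.{u} A) [T.Additive] [T.Linear A]

omit [T.Additive] in
theorem map_smul_id (a : A) (M : ModuleCat.{u} A) : T.map (a • 𝟙 M) = a • 𝟙 (T.obj M) := by
  rw [Functor.map_smul, CategoryTheory.Functor.map_id]

/-- A linear functor preserving filtered colimits commutes with localization. -/
theorem isLocalizedModule_map
    (hT : ∀ (J : Type u) [SmallCategory J] [IsFiltered J], PreservesColimitsOfShape J T)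
    (S : Submonoid A) {M M' : ModuleCat.{u} A} (g : M ⟶ M') [IsLocalizedModule S g.hom] :
    IsLocalizedModule S (T.map g).hom := by
  haveI := LocIx.isFiltered S
  haveI := hT (LocIx S)
  let hc := isColimitOfPreserves (T ⋙ forget (ModuleCat.{u} A)) (LocIx.isColimit S g)
  have hleg : ∀ (s : LocIx S) (y : T.obj M),
      (s.el : A) • (T.map (LocIx.leg S g s)).hom y = (T.map g).hom y := fun s y => by
    conv_rhs => rw [← LocIx.leg_comp S g s, T.map_comp, map_smul_id]
    rfl
  have hmap : ∀ {s t : LocIx S} (f : s ⟶ t) (y : T.obj M),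
      (T.map ((LocIx.diagram S M).map f)).hom y = ((f.1 : S) : A) • y := fun f y => by
    show (T.map (((f.1 : S) : A) • 𝟙 M)).hom y = _
    rw [map_smul_id]
    rfl
  refine { map_units := fun x => ?_, surj := fun y => ?_, exists_of_eq := fun {a b} h => ?_ }
  · have h1 : IsIso ((x : A) • 𝟙 M') := by
      have := IsLocalizedModule.map_units g.hom x
      rw [ConcreteCategory.isIso_iff_bijective]
      exact (Module.End.isUnit_iff _).1 this
    have h2 : IsIso ((x : A) • 𝟙 (T.obj M')) := by
      rw [← map_smul_id]
      infer_instance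
    rw [Module.End.isUnit_iff]
    exact (ConcreteCategory.isIso_iff_bijective _).1 h2
  · obtain ⟨s, z, hz⟩ := Types.jointly_surjective_of_isColimit hc y
    exact ⟨⟨z, s.el⟩, by
      rw [Submonoid.smul_def]
      refine Eq.trans ?_ (hleg s z)
      exact congrArg _ hz.symm⟩
  · have h1 : ∀ y : T.obj M, (T.map (LocIx.leg S g (⟨1⟩ : LocIx S))).hom y = (T.map g).hom y :=
      fun y => by simpa using hleg (⟨1⟩ : LocIx S) y
    obtain ⟨t, f, hf⟩ := (Types.FilteredColimit.isColimit_eq_iff' hc (i := (⟨1⟩ : LocIx S)) a b).1
      ((h1 a).trans (h.trans (h1 b).symm))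
    refine ⟨f.1, ?_⟩
    rw [Submonoid.smul_def, Submonoid.smul_def]
    exact ((hmap f a).symm.trans hf).trans (hmap f b)

section Exactness

variable (hT : ∀ (J : Type u) [SmallCategory J] [IsFiltered J], PreservesColimitsOfShape J T)
  (m : Ideal A) [m.IsMaximal]

/-- Localization at `m`, as an endofunctor. -/
noncomputable abbrev locAt : ModuleCat.{u} A ⥤ ModuleCat.{u} A :=
  ModuleCat.extendScalars (algebraMap A (Localization.AtPrime m)) ⋙
    ModuleCat.restrictScalars (algebraMap A (Localization.AtPrime m))

/-- The localization map. -/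
noncomputable abbrev locUnit (M : ModuleCat.{u} A) : M ⟶ (locAt m).obj M :=
  (ModuleCat.extendRestrictScalarsAdj (algebraMap A (Localization.AtPrime m))).unit.app M

theorem isLocalizedModule_unit_aux (S : Submonoid A) (B : Type u) [CommRing B] (φ : A →+* B)
    (alg : Algebra A B) (halg : alg = φ.toAlgebra) [IsLocalization S B] (M : ModuleCat.{u} A) :
    IsLocalizedModule S ((ModuleCat.extendRestrictScalarsAdj φ).unit.app M).hom := by
  subst halg
  letI := φ.toAlgebra
  have h : IsLocalizedModule S (TensorProduct.mk A B M 1) := inferInstance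
  let e : TensorProduct A B M ≃ₗ[A]
      (ModuleCat.restrictScalars φ).obj ((ModuleCat.extendScalars φ).obj M) :=
    { toFun := fun x => x
      invFun := fun x => x
      left_inv := fun _ => rfl
      right_inv := fun _ => rfl
      map_add' := fun _ _ => rfl
      map_smul' := fun a x => (algebraMap_smul B a x).symm }
  exact IsLocalizedModule.of_linearEquiv S (TensorProduct.mk A B M 1) e

instance isLocalizedModule_locUnit (M : ModuleCat.{u} A) :
    IsLocalizedModule m.primeCompl (locUnit m M).hom :=
  haveI : IsLocalization m.primeCompl (Localization.AtPrime m) :=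
    (inferInstance : IsLocalization.AtPrime (Localization.AtPrime m) m)
  isLocalizedModule_unit_aux m.primeCompl (Localization.AtPrime m)
    (algebraMap A (Localization.AtPrime m)) (inferInstance : Algebra A (Localization.AtPrime m))
    (Algebra.algebra_ext _ _ fun _ => rfl) M

theorem flat_toAlgebra_aux (B : Type u) [CommRing B] (φ : A →+* B)
    (alg : Algebra A B) (halg : alg = φ.toAlgebra) (h : Module.Flat A B) :
    letI := φ.toAlgebra; Module.Flat A B := by
  subst halg
  exact h

theorem shortExact_extend {S : ShortComplex (ModuleCat.{u} A)} (hS : S.ShortExact) :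
    (S.map (ModuleCat.extendScalars (algebraMap A (Localization.AtPrime m)))).ShortExact := by
  refine FlatCxLib.shortExact_extendScalars_field _ ?_ hS
  exact flat_toAlgebra_aux _ _ inferInstance (Algebra.algebra_ext _ _ fun _ => rfl)
    (IsLocalization.flat (Localization.AtPrime m) m.primeCompl)

include hT in
theorem map_eq {M N : ModuleCat.{u} A} (f : M ⟶ N) :
    haveI := isLocalizedModule_map T hT m.primeCompl (locUnit m M)
    haveI := isLocalizedModule_map T hT m.primeCompl (locUnit m N)
    IsLocalizedModule.map m.primeCompl (T.map (locUnit m M)).hom (T.map (locUnit m N)).hom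
      (T.map f).hom = (T.map ((locAt m).map f)).hom := by
  haveI := isLocalizedModule_locUnit m M
  haveI := isLocalizedModule_locUnit m N
  haveI := isLocalizedModule_map T hT m.primeCompl (locUnit m M)
  haveI := isLocalizedModule_map T hT m.primeCompl (locUnit m N)
  refine IsLocalizedModule.linearMap_ext m.primeCompl (T.map (locUnit m M)).hom
    (T.map (locUnit m N)).hom ?_
  rw [IsLocalizedModule.map_comp, ← ModuleCat.hom_comp, ← ModuleCat.hom_comp, ← T.map_comp, ← T.map_comp]
  congr 1

end Exactness

theorem preservesFiniteLimits_of_local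
    (hT : ∀ (J : Type u) [SmallCategory J] [IsFiltered J], PreservesColimitsOfShape J T)
    (h : ∀ (m : Ideal A) [m.IsMaximal],
      PreservesFiniteLimits (ModuleCat.restrictScalars (algebraMap A (Localization.AtPrime m)) ⋙ T)) :
    PreservesFiniteLimits T := by
  refine ((Functor.preservesFiniteLimits_tfae T).out 0 3).1 fun S hS => ?_
  haveI := fun (m : Ideal A) [m.IsMaximal] (M : ModuleCat.{u} A) =>
    isLocalizedModule_map T hT m.primeCompl (locUnit m M)
  have key : ∀ (m : Ideal A) [m.IsMaximal],
      (((S.map (ModuleCat.extendScalars (algebraMap A (Localization.AtPrime m)))).map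
        (ModuleCat.restrictScalars (algebraMap A (Localization.AtPrime m)) ⋙ T))).Exact ∧
      Mono ((ModuleCat.restrictScalars (algebraMap A (Localization.AtPrime m)) ⋙ T).map
        ((ModuleCat.extendScalars (algebraMap A (Localization.AtPrime m))).map S.f)) := fun m _ =>
    (((Functor.preservesFiniteLimits_tfae (ModuleCat.restrictScalars (algebraMap A (Localization.AtPrime m)) ⋙ T)).out 3 0 rfl rfl).1 (h m) _ (shortExact_extend m hS))
  refine ⟨?_, ?_⟩
  · rw [ShortComplex.ShortExact.moduleCat_exact_iff_function_exact]
    refine exact_of_isLocalized_maximal (fun m _ => T.obj ((locAt m).obj S.X₁)) (fun m _ => (T.map (locUnit m S.X₁)).hom)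
      (fun m _ => T.obj ((locAt m).obj S.X₂)) (fun m _ => (T.map (locUnit m S.X₂)).hom)
      (fun m _ => T.obj ((locAt m).obj S.X₃)) (fun m _ => (T.map (locUnit m S.X₃)).hom)
      (T.map S.f).hom (T.map S.g).hom fun m _ => ?_
    rw [map_eq T hT m, map_eq T hT m]
    exact (ShortComplex.ShortExact.moduleCat_exact_iff_function_exact _).1 (key m).1
  · rw [ModuleCat.mono_iff_injective]
    refine injective_of_isLocalized_maximal (fun m _ => T.obj ((locAt m).obj S.X₁)) (fun m _ => (T.map (locUnit m S.X₁)).hom)
      (fun m _ => T.obj ((locAt m).obj S.X₂)) (fun m _ => (T.map (locUnit m S.X₂)).hom)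
      (T.map S.f).hom fun m _ => ?_
    rw [map_eq T hT m]
    exact (ModuleCat.mono_iff_injective _).1 (key m).2

theorem preservesFiniteColimits_of_local
    (hT : ∀ (J : Type u) [SmallCategory J] [IsFiltered J], PreservesColimitsOfShape J T)
    (h : ∀ (m : Ideal A) [m.IsMaximal],
      PreservesFiniteColimits (ModuleCat.restrictScalars (algebraMap A (Localization.AtPrime m)) ⋙ T)) :
    PreservesFiniteColimits T := by
  refine ((Functor.preservesFiniteColimits_tfae T).out 0 3).1 fun S hS => ?_
  haveI := fun (m : Ideal A) [m.IsMaximal] (M : ModuleCat.{u} A) =>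
    isLocalizedModule_map T hT m.primeCompl (locUnit m M)
  have key : ∀ (m : Ideal A) [m.IsMaximal],
      (((S.map (ModuleCat.extendScalars (algebraMap A (Localization.AtPrime m)))).map
        (ModuleCat.restrictScalars (algebraMap A (Localization.AtPrime m)) ⋙ T))).Exact ∧
      Epi ((ModuleCat.restrictScalars (algebraMap A (Localization.AtPrime m)) ⋙ T).map
        ((ModuleCat.extendScalars (algebraMap A (Localization.AtPrime m))).map S.g)) := fun m _ =>
    (((Functor.preservesFiniteColimits_tfae (ModuleCat.restrictScalars (algebraMap A (Localization.AtPrime m)) ⋙ T)).out 3 0 rfl rfl).1 (h m) _ (shortExact_extend m hS))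
  refine ⟨?_, ?_⟩
  · rw [ShortComplex.ShortExact.moduleCat_exact_iff_function_exact]
    refine exact_of_isLocalized_maximal (fun m _ => T.obj ((locAt m).obj S.X₁)) (fun m _ => (T.map (locUnit m S.X₁)).hom)
      (fun m _ => T.obj ((locAt m).obj S.X₂)) (fun m _ => (T.map (locUnit m S.X₂)).hom)
      (fun m _ => T.obj ((locAt m).obj S.X₃)) (fun m _ => (T.map (locUnit m S.X₃)).hom)
      (T.map S.f).hom (T.map S.g).hom fun m _ => ?_
    rw [map_eq T hT m, map_eq T hT m]
    exact (ShortComplex.ShortExact.moduleCat_exact_iff_function_exact _).1 (key m).1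
  · rw [ModuleCat.epi_iff_surjective]
    refine surjective_of_isLocalized_maximal (fun m _ => T.obj ((locAt m).obj S.X₂)) (fun m _ => (T.map (locUnit m S.X₂)).hom)
      (fun m _ => T.obj ((locAt m).obj S.X₃)) (fun m _ => (T.map (locUnit m S.X₃)).hom)
      (T.map S.g).hom fun m _ => ?_
    rw [map_eq T hT m]
    exact (ModuleCat.epi_iff_surjective _).1 (key m).2

end Groth.Agent.FlatAssocX
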