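import Mathlib

/-!
# Descent of properties of modules along a Milnor square

`B → A`, `B → B'` with `B → B'` surjective with kernel `I`, `I ∩ ker (B → A) = 0` and `I A = φ I`.
-/

set_option autoImplicit false
set_option linter.style.haveILetI false

universe u

open TensorProduct

namespace Groth.Agent.FlatAssocX.Milnor

/-- `B'` is `B / I`, and the ideal `I` maps isomorphically onto an ideal of `A`. -/
structure IsMilnor (B A B' : Type u) [CommRing B] [CommRing A] [CommRing B'] [Algebra B A] [Algebra B B'] : Prop where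
  surj : Function.Surjective (algebraMap B B')
  inj : RingHom.ker (algebraMap B A) ⊓ RingHom.ker (algebraMap B B') = ⊥
  image : ∀ a ∈ Ideal.map (algebraMap B A) (RingHom.ker (algebraMap B B')),
    ∃ i ∈ RingHom.ker (algebraMap B B'), algebraMap B A i = a

variable {B A B' : Type u} [CommRing B] [CommRing A] [CommRing B'] [Algebra B A] [Algebra B B']
  (h : IsMilnor B A B') {M : Type u} [AddCommGroup M] [Module B M]

include h

omit h in
/-- `M ⊗ -` preserves injectivity of maps of `A`-modules. -/
theorem lTensor_injective_A {P Q : Type u} [AddCommGroup P] [Module B P] [Module A P] [IsScalarTower B A P]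
    [AddCommGroup Q] [Module B Q] [Module A Q] [IsScalarTower B A Q] [Module.Flat A (A ⊗[B] M)]
    (f : P →ₗ[A] Q) (hf : Function.Injective f) : Function.Injective ((f.restrictScalars B).lTensor M) := by
  have h1 : Function.Injective (f.rTensor (A ⊗[B] M)) :=
    Module.Flat.rTensor_preserves_injective_linearMap f hf
  let eP := AlgebraTensorModule.cancelBaseChange B A A P M
  let eQ := AlgebraTensorModule.cancelBaseChange B A A Q M
  have hsq : ∀ z, (f.restrictScalars B).rTensor M (eP z) = eQ (f.rTensor (A ⊗[B] M) z) := by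
    intro z
    induction z with
    | zero => simp
    | add x y hx hy => simp [hx, hy]
    | tmul p am =>
      induction am with
      | zero => simp
      | add x y hx hy => simp [TensorProduct.tmul_add, hx, hy]
      | tmul a m => simp [eP, eQ, AlgebraTensorModule.cancelBaseChange_tmul]
  have h2 : Function.Injective ((f.restrictScalars B).rTensor M) := by
    intro x y hxy
    obtain ⟨x, rfl⟩ := eP.surjective x
    obtain ⟨y, rfl⟩ := eP.surjective y
    rw [hsq, hsq] at hxy
    rw [h1 (eQ.injective hxy)]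
  rw [← LinearMap.comm_comp_rTensor_comp_comm_eq]
  simpa using (TensorProduct.comm B Q M).injective.comp (h2.comp (TensorProduct.comm B M P).injective)

/-- `M ⊗ -` preserves injectivity of maps between modules killed by `I`. -/
theorem lTensor_injective_killed {P Q : Type u} [AddCommGroup P] [Module B P] [AddCommGroup Q] [Module B Q]
    (hP : ∀ (i : B) (p : P), i ∈ RingHom.ker (algebraMap B B') → i • p = 0)
    (hQ : ∀ (i : B) (q : Q), i ∈ RingHom.ker (algebraMap B B') → i • q = 0)
    [Module.Flat B' (B' ⊗[B] M)] (f : P →ₗ[B] Q) (hf : Function.Injective f) :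
    Function.Injective (f.lTensor M) := by
  let I := RingHom.ker (algebraMap B B')
  let e : (B ⧸ I) ≃+* B' := RingHom.quotientKerEquivOfSurjective h.surj
  have hPt : Module.IsTorsionBySet B P (I : Set B) := fun p i => hP i.1 p i.2
  have hQt : Module.IsTorsionBySet B Q (I : Set B) := fun q i => hQ i.1 q i.2
  letI := hPt.module
  letI := hQt.module
  letI : Module B' P := Module.compHom P e.symm.toRingHom
  letI : Module B' Q := Module.compHom Q e.symm.toRingHom
  have he : ∀ b : B, e.symm (algebraMap B B' b) = Ideal.Quotient.mk I b := fun b =>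
    e.symm_apply_eq.2 (RingHom.quotientKerEquivOfSurjective_apply_mk h.surj b).symm
  haveI : IsScalarTower B B' P := IsScalarTower.of_algebraMap_smul fun b p => by
    show e.symm (algebraMap B B' b) • p = b • p
    rw [he]; exact hPt.mk_smul b p
  haveI : IsScalarTower B B' Q := IsScalarTower.of_algebraMap_smul fun b q => by
    show e.symm (algebraMap B B' b) • q = b • q
    rw [he]; exact hQt.mk_smul b q
  let g : P →ₗ[B'] Q :=
    { toFun := f
      map_add' := f.map_add
      map_smul' := fun c p => by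
        obtain ⟨b, rfl⟩ := h.surj c
        simp only [algebraMap_smul, map_smul, RingHom.id_apply] }
  exact lTensor_injective_A g hf

/-- Flatness descends along a Milnor square. -/
theorem flat [Module.Flat A (A ⊗[B] M)] [Module.Flat B' (B' ⊗[B] M)] : Module.Flat B M := by
  set I := RingHom.ker (algebraMap B B')
  set J := Ideal.map (algebraMap B A) I
  -- `I` and `J` agree
  let φ : I →ₗ[B] J :=
    { toFun := fun i => ⟨algebraMap B A i, Ideal.mem_map_of_mem _ i.2⟩
      map_add' := fun x y => Subtype.ext (map_add _ _ _)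
      map_smul' := fun b x => Subtype.ext (by simp [Algebra.smul_def]) }
  have hφi : Function.Injective φ := fun x y hxy => by
    have h0 : (x : B) - y ∈ RingHom.ker (algebraMap B A) ⊓ I :=
      ⟨by rw [SetLike.mem_coe, RingHom.mem_ker, map_sub, sub_eq_zero]; exact congrArg Subtype.val hxy, sub_mem x.2 y.2⟩
    rw [h.inj] at h0
    exact Subtype.ext (sub_eq_zero.1 h0)
  have hφs : Function.Surjective φ := fun a => by
    obtain ⟨i, hi, hia⟩ := h.image a.1 a.2
    exact ⟨⟨i, hi⟩, Subtype.ext hia⟩
  let eφ : I ≃ₗ[B] J := LinearEquiv.ofBijective φ ⟨hφi, hφs⟩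
  -- injectivity on `I`
  have hI : Function.Injective (I.subtype.lTensor M) := by
    have h1 : Function.Injective ((J.subtype.restrictScalars B).lTensor M) := lTensor_injective_A J.subtype J.injective_subtype
    have hcomm : (Algebra.linearMap B A) ∘ₗ I.subtype = (J.subtype.restrictScalars B) ∘ₗ eφ.toLinearMap :=
      LinearMap.ext fun i => rfl
    have h2 : Function.Injective (((Algebra.linearMap B A) ∘ₗ I.subtype).lTensor M) := by
      rw [hcomm, LinearMap.lTensor_comp]
      exact h1.comp (LinearEquiv.lTensor M eφ).injective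
    rw [LinearMap.lTensor_comp, LinearMap.coe_comp] at h2
    exact h2.of_comp
  rw [Module.Flat.iff_lTensor_injective]
  intro K _
  let KI : Ideal B := K ⊓ I
  -- transport of `A`-submodules of `J`
  have transfer : ∀ (L₁ L₂ : Ideal B) (hle : L₁ ≤ L₂), L₂ ≤ I →
      (∀ a ∈ Ideal.map (algebraMap B A) L₁, ∃ i ∈ L₁, algebraMap B A i = a) →
      (∀ a ∈ Ideal.map (algebraMap B A) L₂, ∃ i ∈ L₂, algebraMap B A i = a) →
      Function.Injective ((Submodule.inclusion hle).lTensor M) := by
    intro L₁ L₂ hle hL₂ h₁ h₂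
    let mkφ : ∀ L : Ideal B, L →ₗ[B] (Ideal.map (algebraMap B A) L) := fun L =>
      { toFun := fun i => ⟨algebraMap B A i, Ideal.mem_map_of_mem _ i.2⟩
        map_add' := fun x y => Subtype.ext (map_add _ _ _)
        map_smul' := fun b x => Subtype.ext (by simp [Algebra.smul_def]) }
    have hbij : ∀ L : Ideal B, L ≤ I → (∀ a ∈ Ideal.map (algebraMap B A) L, ∃ i ∈ L, algebraMap B A i = a) →
        Function.Bijective (mkφ L) := fun L hL hsur =>
      ⟨fun x y hxy => Subtype.ext (congrArg (Subtype.val : I → B) (@hφi ⟨x, hL x.2⟩ ⟨y, hL y.2⟩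
        (Subtype.ext (show algebraMap B A x = algebraMap B A y from congrArg Subtype.val hxy)))),
      fun ⟨a, ha⟩ => by obtain ⟨i, hi, e⟩ := hsur a ha; exact ⟨⟨i, hi⟩, Subtype.ext e⟩⟩
    let e₁ := LinearEquiv.ofBijective (mkφ L₁) (hbij L₁ (hle.trans hL₂) h₁)
    let e₂ := LinearEquiv.ofBijective (mkφ L₂) (hbij L₂ hL₂ h₂)
    let j := Submodule.inclusion (Ideal.map_mono (f := algebraMap B A) hle)
    have hc : e₂.toLinearMap ∘ₗ Submodule.inclusion hle = (j.restrictScalars B) ∘ₗ e₁.toLinearMap :=
      LinearMap.ext fun i => rfl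
    have h3 : Function.Injective ((e₂.toLinearMap ∘ₗ Submodule.inclusion hle).lTensor M) := by
      rw [hc, LinearMap.lTensor_comp]
      exact (lTensor_injective_A j (Submodule.inclusion_injective _)).comp (LinearEquiv.lTensor M e₁).injective
    rw [LinearMap.lTensor_comp, LinearMap.coe_comp] at h3
    exact h3.of_comp
  let L₀ : Ideal B := I * K
  let L₁ : Ideal B := I ⊓ (Ideal.map (algebraMap B A) KI).comap (algebraMap B A)
  have hL₀ : ∀ a ∈ Ideal.map (algebraMap B A) L₀, ∃ i ∈ L₀, algebraMap B A i = a := by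
    intro a ha
    have ha' : a ∈ J * Ideal.map (algebraMap B A) K := by rwa [← Ideal.map_mul]
    clear ha
    refine Submodule.mul_induction_on ha' (fun j hj c hc => ?_) fun x y ⟨i, hi, hx⟩ ⟨i', hi', hy⟩ =>
      ⟨i + i', add_mem hi hi', by rw [map_add, hx, hy]⟩
    rw [Ideal.map] at hc
    induction hc using Submodule.span_induction generalizing j with
    | mem c hc =>
      obtain ⟨k, hk, rfl⟩ := hc
      obtain ⟨i, hi, rfl⟩ := h.image j hj
      exact ⟨i * k, Ideal.mul_mem_mul hi hk, map_mul _ _ _⟩
    | zero => exact ⟨0, zero_mem _, by simp⟩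
    | add x y _ _ hx hy =>
      obtain ⟨i, hi, e⟩ := hx j hj
      obtain ⟨i', hi', e'⟩ := hy j hj
      exact ⟨i + i', add_mem hi hi', by rw [map_add, e, e', mul_add]⟩
    | smul r x _ hx =>
      obtain ⟨i, hi, e⟩ := hx (r * j) (Ideal.mul_mem_left _ r hj)
      exact ⟨i, hi, by rw [e, smul_eq_mul]; ring⟩
  have hKIL₁ : KI ≤ L₁ := fun x hx => ⟨hx.2, Ideal.mem_map_of_mem _ hx⟩
  have hL₁ : ∀ a ∈ Ideal.map (algebraMap B A) L₁, ∃ i ∈ L₁, algebraMap B A i = a := by
    intro a ha
    have ha' : a ∈ Ideal.map (algebraMap B A) KI :=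
      Ideal.map_le_iff_le_comap.2 inf_le_right ha
    obtain ⟨i, hi, rfl⟩ := h.image a (Ideal.map_mono inf_le_right ha')
    exact ⟨i, ⟨hi, ha'⟩, rfl⟩
  have hIL₁ : ∀ i ∈ I, ∀ x ∈ L₁, i * x ∈ L₀ := by
    intro i hi x hx
    have h1 : algebraMap B A i * algebraMap B A x ∈ Ideal.map (algebraMap B A) (I * K) := by
      rw [Ideal.map_mul]
      exact Ideal.mul_mem_mul (Ideal.mem_map_of_mem _ hi) (Ideal.map_mono inf_le_left hx.2)
    obtain ⟨y, hy, e⟩ := hL₀ _ h1
    have h0 : i * x - y ∈ RingHom.ker (algebraMap B A) ⊓ I :=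
      ⟨by rw [SetLike.mem_coe, RingHom.mem_ker, map_sub, map_mul, e, sub_self],
        sub_mem (Ideal.mul_mem_left _ _ hx.1) (Ideal.mul_le_left hy)⟩
    rw [h.inj, Submodule.mem_bot, sub_eq_zero] at h0
    exact h0 ▸ hy
  have hL₀KI : L₀ ≤ KI := Ideal.mul_le_inf.trans (le_of_eq (inf_comm _ _))
  -- generic gluing step
  have glue : ∀ (X Y Z : Ideal B) (hXY : X ≤ Y) (hYZ : Y ≤ Z),
      Function.Injective ((Submodule.inclusion (hXY.trans hYZ)).lTensor M) →
      Function.Injective ((Submodule.mapQ (Submodule.comap Y.subtype X) (Submodule.comap Z.subtype X)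
        (Submodule.inclusion hYZ) fun x hx => hx).lTensor M) →
      Function.Injective ((Submodule.inclusion hYZ).lTensor M) := by
    intro X Y Z hXY hYZ hX hQ
    let SY : Submodule B Y := Submodule.comap Y.subtype X
    rw [injective_iff_map_eq_zero]
    intro z hz
    have h1 : (SY.mkQ).lTensor M z = 0 := by
      apply hQ
      rw [map_zero, ← LinearMap.comp_apply, ← LinearMap.lTensor_comp, Submodule.mapQ_mkQ,
        LinearMap.lTensor_comp, LinearMap.comp_apply, hz, map_zero]
    let jX : X →ₗ[B] Y := Submodule.inclusion hXY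
    have hex : Function.Exact jX SY.mkQ := fun y => by
      rw [Submodule.mkQ_apply, Submodule.Quotient.mk_eq_zero]
      exact ⟨fun hy => ⟨⟨y, hy⟩, rfl⟩, by rintro ⟨x, rfl⟩; exact x.2⟩
    obtain ⟨w, rfl⟩ := (lTensor_exact M hex SY.mkQ_surjective z).1 h1
    rw [← LinearMap.comp_apply, ← LinearMap.lTensor_comp] at hz
    rw [show w = 0 from hX (by rw [map_zero]; exact hz), map_zero]
  -- `K ⊓ I → L₁`
  have step1 : Function.Injective ((Submodule.inclusion hKIL₁).lTensor M) := by
    refine glue L₀ KI L₁ hL₀KI hKIL₁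
      (transfer L₀ L₁ _ inf_le_left hL₀ hL₁) ?_
    refine lTensor_injective_killed h ?_ ?_ _ ?_
    · intro i x hi
      obtain ⟨x, rfl⟩ := Submodule.mkQ_surjective _ x
      rw [← map_smul]
      exact (Submodule.Quotient.mk_eq_zero _).2 (hIL₁ i hi _ (hKIL₁ x.2))
    · intro i x hi
      obtain ⟨x, rfl⟩ := Submodule.mkQ_surjective _ x
      rw [← map_smul]
      exact (Submodule.Quotient.mk_eq_zero _).2 (hIL₁ i hi _ x.2)
    · rw [injective_iff_map_eq_zero]
      intro x hx
      obtain ⟨x, rfl⟩ := Submodule.mkQ_surjective _ x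
      refine (Submodule.Quotient.mk_eq_zero _).2 ?_
      rw [Submodule.mkQ_apply, Submodule.mapQ_apply, Submodule.Quotient.mk_eq_zero] at hx
      exact hx
  have hJ : ∀ a ∈ Ideal.map (algebraMap B A) I, ∃ i ∈ I, algebraMap B A i = a := h.image
  have step2 : Function.Injective (KI.subtype.lTensor M) := by
    have : KI.subtype = I.subtype ∘ₗ Submodule.inclusion (inf_le_left : L₁ ≤ I) ∘ₗ Submodule.inclusion hKIL₁ :=
      LinearMap.ext fun x => rfl
    rw [this, LinearMap.lTensor_comp, LinearMap.lTensor_comp]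
    exact hI.comp ((transfer L₁ I _ le_rfl hL₁ hJ).comp step1)
  -- `K → B`
  rw [injective_iff_map_eq_zero]
  intro z hz
  let SK : Submodule B K := Submodule.comap K.subtype KI
  let g : (K ⧸ SK) →ₗ[B] B ⧸ I := Submodule.mapQ SK I K.subtype fun x hx => hx.2
  have hg : Function.Injective (g.lTensor M) := by
    refine lTensor_injective_killed h ?_ ?_ g ?_
    · intro i x hi
      obtain ⟨x, rfl⟩ := Submodule.mkQ_surjective _ x
      rw [← map_smul]
      exact (Submodule.Quotient.mk_eq_zero _).2 ⟨Ideal.mul_mem_left K i x.2, Ideal.mul_mem_right _ I hi⟩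
    · intro i x hi
      obtain ⟨x, rfl⟩ := Submodule.mkQ_surjective _ x
      rw [← map_smul]
      exact (Submodule.Quotient.mk_eq_zero _).2 (Ideal.mul_mem_right _ I hi)
    · rw [injective_iff_map_eq_zero]
      intro x hx
      obtain ⟨x, rfl⟩ := Submodule.mkQ_surjective _ x
      exact (Submodule.Quotient.mk_eq_zero _).2 ⟨x.2, (Submodule.Quotient.mk_eq_zero _).1 hx⟩
  have h1 : SK.mkQ.lTensor M z = 0 := by
    apply hg
    rw [map_zero, ← LinearMap.comp_apply, ← LinearMap.lTensor_comp, Submodule.mapQ_mkQ,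
      LinearMap.lTensor_comp, LinearMap.comp_apply, hz, map_zero]
  let jK : KI →ₗ[B] K := Submodule.inclusion inf_le_left
  have hex : Function.Exact jK SK.mkQ := fun y => by
    rw [Submodule.mkQ_apply, Submodule.Quotient.mk_eq_zero]
    exact ⟨fun hy => ⟨⟨y, hy⟩, rfl⟩, by rintro ⟨x, rfl⟩; exact x.2⟩
  obtain ⟨w, rfl⟩ := (lTensor_exact M hex SK.mkQ_surjective z).1 h1
  rw [← LinearMap.comp_apply, ← LinearMap.lTensor_comp] at hz
  rw [show w = 0 from step2 (by rw [map_zero]; exact hz), map_zero]

/-- A module with vanishing pull-backs is zero. -/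
theorem subsingleton [Subsingleton (A ⊗[B] M)] [Subsingleton (B' ⊗[B] M)] : Subsingleton M := by
  set I := RingHom.ker (algebraMap B B')
  haveI : Module.Flat A (A ⊗[B] M) := inferInstance
  haveI : Module.Flat B' (B' ⊗[B] M) := inferInstance
  haveI := flat h (M := M)
  -- `M ⊗ B → M ⊗ (A × B')` is injective
  have hinj : Function.Injective ((LinearMap.prod (Algebra.linearMap B A) (Algebra.linearMap B B')).lTensor M) := by
    refine Module.Flat.lTensor_preserves_injective_linearMap _ ((injective_iff_map_eq_zero _).2 fun b hb => ?_)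
    have hb' : b ∈ RingHom.ker (algebraMap B A) ⊓ I := ⟨congrArg Prod.fst hb, congrArg Prod.snd hb⟩
    rwa [h.inj, Submodule.mem_bot] at hb'
  haveI : Subsingleton (M ⊗[B] A) := (TensorProduct.comm B M A).toEquiv.subsingleton
  haveI : Subsingleton (M ⊗[B] B') := (TensorProduct.comm B M B').toEquiv.subsingleton
  haveI : Subsingleton (M ⊗[B] (A × B')) := (TensorProduct.prodRight B B M A B').toEquiv.subsingleton
  exact (TensorProduct.rid B M).symm.toEquiv.subsingleton_congr.2 hinj.subsingleton

/-- Finiteness descends along a Milnor square. -/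
theorem finite [Module.Finite A (A ⊗[B] M)] [Module.Finite B' (B' ⊗[B] M)] : Module.Finite B M := by
  classical
  have gen : ∀ (C : Type u) [CommRing C] [Algebra B C] [Module.Finite C (C ⊗[B] M)],
      ∃ N : Submodule B M, N.FG ∧ Submodule.span C ((fun m => (1 : C) ⊗ₜ[B] m) '' (N : Set M)) = ⊤ := by
    intro C _ _ _
    obtain ⟨s, hs⟩ := Module.Finite.fg_top (R := C) (M := C ⊗[B] M)
    choose f hf using fun x : C ⊗[B] M => TensorProduct.exists_finset x
    let t : Finset M := s.biUnion fun x => (f x).image Prod.snd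
    refine ⟨Submodule.span B (t : Set M), ⟨t, rfl⟩, top_le_iff.1 ?_⟩
    rw [← hs, Submodule.span_le]
    intro x hx
    rw [hf x]
    refine Submodule.sum_mem _ fun p hp => ?_
    rw [show p.1 ⊗ₜ[B] p.2 = p.1 • ((1 : C) ⊗ₜ[B] p.2) by rw [TensorProduct.smul_tmul', smul_eq_mul, mul_one]]
    exact Submodule.smul_mem _ _ (Submodule.subset_span ⟨p.2, Submodule.subset_span
      (Finset.mem_biUnion.2 ⟨x, hx, Finset.mem_image_of_mem _ hp⟩), rfl⟩)
  obtain ⟨N₁, hN₁, h₁⟩ := gen A
  obtain ⟨N₂, hN₂, h₂⟩ := gen B'
  let N := N₁ ⊔ N₂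
  have key : ∀ (C : Type u) [CommRing C] [Algebra B C] (N' : Submodule B M), N' ≤ N →
      Submodule.span C ((fun m => (1 : C) ⊗ₜ[B] m) '' (N' : Set M)) = ⊤ → Subsingleton (C ⊗[B] (M ⧸ N)) := by
    intro C _ _ N' hle hspan
    refine subsingleton_of_forall_eq 0 fun y => ?_
    obtain ⟨x, rfl⟩ := (LinearMap.lTensor_surjective C N.mkQ_surjective : Function.Surjective (N.mkQ.baseChange C)) y
    show N.mkQ.baseChange C x = 0
    have : x ∈ Submodule.span C ((fun m => (1 : C) ⊗ₜ[B] m) '' (N' : Set M)) := hspan ▸ Submodule.mem_top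
    induction this using Submodule.span_induction with
    | mem z hz =>
      obtain ⟨m, hm, rfl⟩ := hz
      rw [LinearMap.baseChange_tmul, Submodule.mkQ_apply, (Submodule.Quotient.mk_eq_zero N).2 (hle hm),
        TensorProduct.tmul_zero]
    | zero => exact map_zero _
    | add a b _ _ ha hb => rw [map_add, ha, hb, add_zero]
    | smul c a _ ha => rw [map_smul, ha, smul_zero]
  haveI := key A N₁ le_sup_left h₁
  haveI := key B' N₂ le_sup_right h₂
  haveI : Subsingleton (M ⧸ N) := subsingleton h
  have hN : N = ⊤ := Submodule.Quotient.subsingleton_iff.1 ‹_›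
  exact ⟨hN ▸ hN₁.sup hN₂⟩

/-- Finite presentation descends for flat modules along a Milnor square. -/
theorem finitePresentation [Module.Flat A (A ⊗[B] M)] [Module.Flat B' (B' ⊗[B] M)]
    [Module.FinitePresentation A (A ⊗[B] M)] [Module.FinitePresentation B' (B' ⊗[B] M)] :
    Module.FinitePresentation B M := by
  haveI := flat h (M := M)
  haveI := finite h (M := M)
  obtain ⟨n, π, hπ⟩ := Module.Finite.exists_fin' B M
  let R := LinearMap.ker π
  have key : ∀ (C : Type u) [CommRing C] [Algebra B C] [Module.FinitePresentation C (C ⊗[B] M)],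
      Module.Finite C (C ⊗[B] R) := by
    intro C _ _ _
    let j := R.subtype.baseChange C
    have hj : Function.Injective j :=
      LinearMap.lTensor_injective_of_exact_of_flat π hπ R.subtype R.injective_subtype π.exact_subtype_ker_map C
    have hex : Function.Exact j (π.baseChange C) := lTensor_exact C π.exact_subtype_ker_map hπ
    have hfg : (LinearMap.range j).FG := by
      rw [← hex.linearMap_ker_eq]
      exact Module.FinitePresentation.fg_ker _ (LinearMap.lTensor_surjective C hπ : Function.Surjective (π.baseChange C))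
    haveI : Module.Finite C (LinearMap.range j) := Module.Finite.iff_fg.2 hfg
    exact Module.Finite.equiv (LinearEquiv.ofInjective j hj).symm
  haveI := key A
  haveI := key B'
  exact Module.finitePresentation_of_free_of_surjective π hπ (Module.Finite.iff_fg.1 (finite h))

end Groth.Agent.FlatAssocX.Milnor
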