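import Groth.Agent.ConsPropLib.Loci
import Groth.Agent.MorLib.BaseChangeLim
import Groth.Agent.S4788
import Groth.Agent.FlatFun4.FPPull
import Groth.Agent.QCoh.LocFree

/-!
# Loci of constructible properties of schemes with a module (EGA IV 9.3)
-/

set_option autoImplicit false
set_option linter.style.haveILetI false

open CategoryTheory CategoryTheory.Limits AlgebraicGeometry Topology Groth.Agent.ConsPropLib

namespace Groth.Agent.FlatAssocX.ModLoci

universe u

theorem isCoh_of_isFP {X : Scheme.{u}} {M : X.Modules} (h : CohB1.IsFP M) : Coh.IsCoh M :=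
  ⟨QCoh.isQCoh_of_isFP h, QCoh.isFT_of_isFP h⟩

theorem isCoh_pullback_fiber {X S : Scheme.{u}} (u : X ⟶ S) {F : X.Modules} (hF : CohB1.IsFP F) (s : S) :
    Coh.IsCoh ((Scheme.Modules.pullback (u.fiberι s)).obj F) :=
  isCoh_of_isFP (FlatFun4.isFP_pullback _ hF)

variable {P : ∀ ⦃Y T : Scheme.{u}⦄, (Y ⟶ T) → Y.Modules → Prop}

theorem preimage {X S X' S' : Scheme.{u}} (hP : ConsProp.IsFieldStableMod P) {u : X ⟶ S} {u' : X' ⟶ S'}
    {p : X' ⟶ X} {h : S' ⟶ S} [LocallyOfFiniteType u] [QuasiCompact u] (sq : IsPullback p u' u h)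
    {F : X.Modules} (hF : CohB1.IsFP F) :
    ConsProp.locusMod P u' ((Scheme.Modules.pullback p).obj F) = h ⁻¹' ConsProp.locusMod P u F :=
  locusMod_preimage hP sq (isCoh_pullback_fiber u hF) (Iso.refl _)

section Noetherian

variable {S X : Scheme.{u}} [IsNoetherian S]

theorem isConstructible_locusMod (hP : ConsProp.IsConsMod P) (u : X ⟶ S) [LocallyOfFiniteType u] [QuasiCompact u]
    {F : X.Modules} (hF : CohB1.IsFP F) : IsConstructible (ConsProp.locusMod P u F) :=
  isConstructible_of_dichotomy _ fun T j _ _ _ => by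
    rw [← preimage hP.1 (IsPullback.of_hasPullback u j) hF]
    exact hP.2 (pullback.snd u j) _ (isCoh_of_isFP (FlatFun4.isFP_pullback _ hF))

theorem isIndConstructible_locusMod' (hP : ConsProp.IsIndConsMod P) (u : X ⟶ S) [LocallyOfFiniteType u]
    [QuasiCompact u] {F : X.Modules} (hF : CohB1.IsFP F) :
    ProCons.IsIndConstructible (ConsProp.locusMod P u F) :=
  isIndConstructible_of_generic _ fun T j _ _ _ hg => by
    have hl := preimage hP.1 (IsPullback.of_hasPullback u j) hF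
    rw [← hl]
    exact hP.2 (pullback.snd u j) _ (isCoh_of_isFP (FlatFun4.isFP_pullback _ hF)) (hl.ge hg)

end Noetherian

/-- A finitely presented scheme with a finitely presented module over an affine scheme comes from a
noetherian scheme. -/
theorem exists_model_mod {S X : Scheme.{u}} [IsAffine S] (u : X ⟶ S)
    [LocallyOfFinitePresentation u] [QuasiCompact u] [QuasiSeparated u]
    (F : X.Modules) (hF : CohB1.IsFP F) :
    ∃ (S₀ X₀ : Scheme.{u}) (π : S ⟶ S₀) (u₀ : X₀ ⟶ S₀) (qX : X ⟶ X₀) (F₀ : X₀.Modules),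
      IsNoetherian S₀ ∧ IsAffine S₀ ∧ LocallyOfFiniteType u₀ ∧ QuasiCompact u₀ ∧ IsPullback qX u u₀ π ∧
      CohB1.IsFP F₀ ∧ Nonempty ((Scheme.Modules.pullback qX).obj F₀ ≅ F) := by
  obtain ⟨I, _, _, D, c, hc, e, hA, hN⟩ := exists_noetherian_limit S
  haveI := hA
  haveI : ∀ {i j : I} (f : i ⟶ j), IsAffineHom (D.map f) := fun f => isAffineHom_of_isAffine _
  obtain ⟨i, X₁, u₁, g₁, hX⟩ := hasModel hc (u ≫ e.inv)
  haveI := hX.compactSpace
  haveI := hX.quasiSeparatedSpace
  let E := MorLib.BC.diag D u₁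
  haveI : ∀ (j k : Over i) (f : j ⟶ k), IsAffineHom (E.map f) := fun j k f => MorLib.BC.isAffineHom_map D u₁ f
  haveI : CompactSpace (E.obj (Over.mk (𝟙 i))) := MorLib.BC.compactSpace_obj D u₁ _
  haveI : QuasiSeparatedSpace (E.obj (Over.mk (𝟙 i))) := MorLib.BC.quasiSeparatedSpace_obj D u₁ _
  haveI : Coh.IsQCoh (show (MorLib.BC.cone D u₁ hX.sq).pt.Modules from F) := QCoh.isQCoh_of_isFP hF
  obtain ⟨j, -, Fj, -, hFj, hiso⟩ := S4788.result E (MorLib.BC.cone D u₁ hX.sq)
    (MorLib.BC.isLimitCone D u₁ hX.sq hc) (Over.mk (𝟙 i)) F hF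
  have m := hX.pushed j.hom
  haveI := m.lfp
  exact ⟨D.obj j.left, _, e.inv ≫ c.π.app j.left, pullback.snd u₁ (D.map j.hom), MorLib.BC.proj D u₁ hX.sq j, Fj,
    hN _, hA _, inferInstance, m.qc,
    (MorLib.BC.isPullback_proj D u₁ hX.sq j).of_iso (Iso.refl _) (Iso.refl _) e (Iso.refl _) (by simp) (by simp)
      (by simp) (by simp), hFj, hiso⟩

variable {S X : Scheme.{u}}

theorem exists_affine_restrict_mod (hP : ConsProp.IsFieldStableMod P) (u : X ⟶ S)
    [LocallyOfFinitePresentation u] [QuasiCompact u] [QuasiSeparated u]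
    {F : X.Modules} (hF : CohB1.IsFP F) {V : S.Opens} (hV : IsAffineOpen V) :
    ∃ (S₀ X₀ : Scheme.{u}) (π : (V : Scheme.{u}) ⟶ S₀) (u₀ : X₀ ⟶ S₀) (F₀ : X₀.Modules),
      IsNoetherian S₀ ∧ IsAffineHom π ∧ LocallyOfFiniteType u₀ ∧ QuasiCompact u₀ ∧ CohB1.IsFP F₀ ∧
      (V.ι ⁻¹' ConsProp.locusMod P u F : Set (V : Scheme.{u})) = π ⁻¹' ConsProp.locusMod P u₀ F₀ := by
  haveI : IsAffine (V : Scheme.{u}) := hV
  obtain ⟨S₀, X₀, π, u₀, qX, F₀, h1, h2, h3, h4, sq, h5, ⟨i⟩⟩ :=
    exists_model_mod (pullback.snd u V.ι) ((Scheme.Modules.pullback (pullback.fst u V.ι)).obj F)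
      (FlatFun4.isFP_pullback _ hF)
  refine ⟨S₀, X₀, π, u₀, F₀, h1, isAffineHom_of_isAffine _, h3, h4, h5, ?_⟩
  rw [← preimage hP (IsPullback.of_hasPullback u V.ι) hF,
    ← locusMod_preimage hP sq (isCoh_pullback_fiber u₀ h5) i.symm]

theorem isLocallyConstructible_locusMod (hP : ConsProp.IsConsMod P) (u : X ⟶ S)
    [LocallyOfFinitePresentation u] [QuasiCompact u] [QuasiSeparated u]
    {F : X.Modules} (hF : CohB1.IsFP F) : IsLocallyConstructible (ConsProp.locusMod P u F) :=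
  lc_of_affine fun V hV => by
    haveI : IsAffine (V : Scheme.{u}) := hV
    obtain ⟨S₀, X₀, π, u₀, F₀, _, _, _, _, h5, e⟩ := exists_affine_restrict_mod hP.1 u hF hV
    rw [e]
    exact MorLib.LimCons.isConstructible_preimage π (isConstructible_locusMod hP u₀ h5)

theorem isIndConstructible_locusMod (hP : ConsProp.IsIndConsMod P) (u : X ⟶ S)
    [LocallyOfFinitePresentation u] [QuasiCompact u] [QuasiSeparated u]
    {F : X.Modules} (hF : CohB1.IsFP F) : ProCons.IsIndConstructible (ConsProp.locusMod P u F) :=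
  ind_of_affine fun V hV => by
    obtain ⟨S₀, X₀, π, u₀, F₀, _, _, _, _, h5, e⟩ := exists_affine_restrict_mod hP.1 u hF hV
    rw [e]
    exact MorLib.LimPro.isIndConstructible_preimage (isIndConstructible_locusMod' hP u₀ h5) π

end Groth.Agent.FlatAssocX.ModLoci

namespace Groth.Agent.FlatAssocX.ModLoci

universe v

theorem mem_interior_of_ind {S : Scheme.{v}} [IrreducibleSpace S] {E : Set S} (hE : ProCons.IsIndConstructible E)
    (hη : genericPoint S ∈ E) : genericPoint S ∈ interior E := by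
  obtain ⟨U, hU, hηU, T, hT, hEq⟩ := hE (genericPoint S)
  have hmem : (⟨genericPoint S, hηU⟩ : ↥U) ∈ ⋃₀ T := by rw [← hEq]; exact hη
  obtain ⟨C, hC, hηC⟩ := hmem
  let W : S.Opens := ⟨U, hU⟩
  have hn : C ∈ nhds (⟨genericPoint S, hηU⟩ : ↥U) :=
    FibDim.mem_nhds_of_generizations (Y := W.toScheme) (hT C hC) fun y' hy' => by
      have e : y'.1 = genericPoint S :=
        ((subtype_specializes_iff _ _).1 hy').antisymm (genericPoint_specializes _) |>.eq
      have : y' = (⟨genericPoint S, hηU⟩ : ↥U) := Subtype.ext e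
      rw [this]; exact hηC
  rw [mem_interior_iff_mem_nhds]
  refine Filter.mem_of_superset (hU.isOpenEmbedding_subtypeVal.isOpenMap.image_mem_nhds hn) ?_
  rintro _ ⟨y, hy, rfl⟩
  have : y ∈ (Subtype.val ⁻¹' E : Set ↥U) := by rw [hEq]; exact ⟨C, hC, hy⟩
  exact this

theorem mem_interior_of_cons {S : Scheme.{v}} [IrreducibleSpace S] {E : Set S} (hE : IsLocallyConstructible E)
    (hη : genericPoint S ∈ E) : genericPoint S ∈ interior E :=
  mem_interior_iff_mem_nhds.2 <| FibDim.mem_nhds_of_generizations hE fun y hy =>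
    (hy.antisymm (genericPoint_specializes y)).eq.symm ▸ hη

theorem compl_locallyConstructible {S : Scheme.{v}} {E : Set S} (hE : IsLocallyConstructible E) :
    IsLocallyConstructible Eᶜ := fun x => by
  obtain ⟨U, hn, hU, hc⟩ := hE x
  exact ⟨U, hn, hU, by rw [Set.preimage_compl]; exact hc.compl⟩

end Groth.Agent.FlatAssocX.ModLoci
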