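import Groth.Agent.RingPO.BaseChange
import Groth.Agent.FlatAssocX.FibreProdTensor

/-!
# Base change of push-outs under injectivity of the base changed section maps
-/

set_option autoImplicit false

universe u

open AlgebraicGeometry CategoryTheory CategoryTheory.Limits TopologicalSpace Opposite TensorProduct RingPO

namespace Groth.Agent.FlatAssocX

/-- The section map of `a` over `U` stays injective after any change of the base ring. -/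
def InjStable {X P S : Scheme.{u}} (sP : P ⟶ S) (a : X ⟶ P) {Sa : S.Opens} {U : P.Opens}
    (eS : U ≤ sP ⁻¹ᵁ Sa) : Prop :=
  letI : Algebra Γ(S, Sa) Γ(P, U) := (sP.appLE Sa U eS).hom.toAlgebra
  letI : Algebra Γ(S, Sa) Γ(X, a ⁻¹ᵁ U) :=
    ((a.appLE U (a ⁻¹ᵁ U) le_rfl).hom.comp (sP.appLE Sa U eS).hom).toAlgebra
  ∀ (R' : Type u) [AddCommGroup R'] [Module Γ(S, Sa) R'],
    Function.Injective ((({ (a.appLE U (a ⁻¹ᵁ U) le_rfl).hom with commutes' := fun _ => rfl } :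
      Γ(P, U) →ₐ[Γ(S, Sa)] Γ(X, a ⁻¹ᵁ U)).toLinearMap).rTensor R')

variable {X Y Z P : Scheme.{u}} {i : Z ⟶ X} {j : Z ⟶ Y} {a : X ⟶ P} {b : Y ⟶ P} [IsClosedImmersion i]

/-- Base change of a pushout along a closed immersion with affine legs. -/
theorem isPushout_baseChange' (h : IsPushout i j a b) (hY : ∀ y : Y, ∃ c : Chart i j, y ∈ c.V) [IsAffineHom a]
    {S T PT XT YT ZT : Scheme.{u}} (sP : P ⟶ S) (g : T ⟶ S)
    (hinj : ∀ x : P, ∃ (Sa : S.Opens) (U : P.Opens) (_ : IsAffineOpen Sa) (_ : IsAffineOpen U) (_ : x ∈ U)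
      (eS : U ≤ sP ⁻¹ᵁ Sa), InjStable sP a eS)
    {pP : PT ⟶ P} {sT : PT ⟶ T} (hPT : IsPullback pP sT sP g)
    {pX : XT ⟶ X} {aT : XT ⟶ PT} (hXT : IsPullback pX aT a pP)
    {pY : YT ⟶ Y} {bT : YT ⟶ PT} (hYT : IsPullback pY bT b pP)
    {pZ : ZT ⟶ Z} {iT : ZT ⟶ XT} (hZT : IsPullback pZ iT i pX)
    {jT : ZT ⟶ YT} (hj₁ : jT ≫ pY = pZ ≫ j) (hj₂ : iT ≫ aT = jT ≫ bT) : IsPushout iT jT aT bT := by
  haveI := isClosedImmersion_inr h hY
  have key : ∀ x : PT, ∃ M : Model iT jT aT bT, x ∈ Set.range M.φ := by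
    intro x
    obtain ⟨Sa, U, hSa, hU, hxU, eS, hI⟩ := hinj (pP x)
    have hxS : sP (pP x) ∈ Sa := eS hxU
    have hgx : g (sT x) = sP (pP x) := congr($(hPT.w) x).symm
    obtain ⟨Ta, hTa, hxT, hTs⟩ := exists_isAffineOpen_mem_and_subset (x := sT x) (U := g ⁻¹ᵁ Sa)
      (show g (sT x) ∈ Sa by rw [hgx]; exact hxS)
    have eT : Ta ≤ g ⁻¹ᵁ Sa := hTs
    set c := chartOver h hU
    have hF := isFibreProd_of_affineOpen h hY hU
    letI : Algebra Γ(S, Sa) Γ(P, U) := (sP.appLE Sa U eS).hom.toAlgebra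
    letI : Algebra Γ(S, Sa) Γ(T, Ta) := (g.appLE Sa Ta eT).hom.toAlgebra
    letI : Algebra Γ(S, Sa) Γ(X, a ⁻¹ᵁ U) := ((a.appLE U (a ⁻¹ᵁ U) le_rfl).hom.comp (sP.appLE Sa U eS).hom).toAlgebra
    letI : Algebra Γ(S, Sa) Γ(Y, b ⁻¹ᵁ U) := ((b.appLE U (b ⁻¹ᵁ U) le_rfl).hom.comp (sP.appLE Sa U eS).hom).toAlgebra
    letI : Algebra Γ(S, Sa) Γ(Z, i ⁻¹ᵁ a ⁻¹ᵁ U) :=
      (c.p.comp ((a.appLE U (a ⁻¹ᵁ U) le_rfl).hom.comp (sP.appLE Sa U eS).hom)).toAlgebra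
    let α : Γ(P, U) →ₐ[Γ(S, Sa)] Γ(X, a ⁻¹ᵁ U) := { (a.appLE U (a ⁻¹ᵁ U) le_rfl).hom with commutes' := fun _ => rfl }
    let β : Γ(P, U) →ₐ[Γ(S, Sa)] Γ(Y, b ⁻¹ᵁ U) := { (b.appLE U (b ⁻¹ᵁ U) le_rfl).hom with commutes' := fun _ => rfl }
    let p : Γ(X, a ⁻¹ᵁ U) →ₐ[Γ(S, Sa)] Γ(Z, i ⁻¹ᵁ a ⁻¹ᵁ U) := { c.p with commutes' := fun _ => rfl }
    let q : Γ(Y, b ⁻¹ᵁ U) →ₐ[Γ(S, Sa)] Γ(Z, i ⁻¹ᵁ a ⁻¹ᵁ U) := { c.q with commutes' := fun r => (hF.comm _).symm }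
    have hF' : IsFibreProd p.toRingHom q.toRingHom α.toRingHom β.toRingHom := hF
    have hM := isFibreProd_tensor hF' Γ(T, Ta) (hI Γ(T, Ta))
    let iC : Γ(P, U) →+* Γ(P, U) ⊗[Γ(S, Sa)] Γ(T, Ta) := Algebra.TensorProduct.includeLeftRingHom
    let iT' : Γ(T, Ta) →+* Γ(P, U) ⊗[Γ(S, Sa)] Γ(T, Ta) :=
      (Algebra.TensorProduct.includeRight : Γ(T, Ta) →ₐ[Γ(S, Sa)] Γ(P, U) ⊗[Γ(S, Sa)] Γ(T, Ta)).toRingHom
    have hsq : IsPullback (Spec.map (CommRingCat.ofHom iC)) (Spec.map (CommRingCat.ofHom iT'))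
        (Spec.map (sP.appLE Sa U eS)) (Spec.map (g.appLE Sa Ta eT)) :=
      isPullback_SpecMap_of_isPushout _ _ _ _ (CommRingCat.isPushout_tensorProduct Γ(S, Sa) Γ(P, U) Γ(T, Ta))
    let m := pullback.map (Spec.map (sP.appLE Sa U eS)) (Spec.map (g.appLE Sa Ta eT)) sP g hU.fromSpec hTa.fromSpec
      hSa.fromSpec (hSa.SpecMap_appLE_fromSpec sP hU eS) (hSa.SpecMap_appLE_fromSpec g hTa eT)
    let φ : Spec (CommRingCat.of (Γ(P, U) ⊗[Γ(S, Sa)] Γ(T, Ta))) ⟶ PT := hsq.isoPullback.hom ≫ m ≫ hPT.isoPullback.inv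
    have hφP : φ ≫ pP = Spec.map (CommRingCat.ofHom iC) ≫ hU.fromSpec := by
      simp only [φ, m, Category.assoc, IsPullback.isoPullback_inv_fst, pullback.lift_fst,
        IsPullback.isoPullback_hom_fst_assoc]
    have mkLeg : ∀ {W : Scheme.{u}} {WT : Scheme.{u}} {f : W ⟶ P} {pW : WT ⟶ W} {fT : WT ⟶ PT}
        (hWT : IsPullback pW fT f pP) [IsAffineHom f] [Algebra Γ(S, Sa) Γ(W, f ⁻¹ᵁ U)]
        (F : Γ(P, U) →ₐ[Γ(S, Sa)] Γ(W, f ⁻¹ᵁ U)), F.toRingHom = (f.appLE U (f ⁻¹ᵁ U) le_rfl).hom →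
        ∃ u : Spec (CommRingCat.of (Γ(W, f ⁻¹ᵁ U) ⊗[Γ(S, Sa)] Γ(T, Ta))) ⟶ WT,
          u ≫ pW = Spec.map (CommRingCat.ofHom Algebra.TensorProduct.includeLeftRingHom) ≫ (hU.preimage f).fromSpec ∧
          IsPullback u (Spec.map (CommRingCat.ofHom (Algebra.TensorProduct.map F (AlgHom.id _ _)).toRingHom)) fT φ := by
      intro W WT f pW fT hWT _ _ F hFeq
      have h1 := isPullback_specTensor (R' := Γ(T, Ta)) F
      rw [show CommRingCat.ofHom F.toRingHom = f.appLE U (f ⁻¹ᵁ U) le_rfl from CommRingCat.hom_ext hFeq] at h1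
      have h2 := h1.paste_horiz (isPullback_fromSpec f hU)
      rw [← hφP] at h2
      refine ⟨hWT.lift _ _ (h2.w.trans (Category.assoc _ _ _).symm), hWT.lift_fst _ _ _, IsPullback.of_right ?_ (hWT.lift_snd _ _ _) hWT⟩
      rw [hWT.lift_fst]
      exact h2
    obtain ⟨uX, huX, hu⟩ := mkLeg hXT α rfl
    obtain ⟨vY, hvY, hv⟩ := mkLeg hYT β rfl
    have hwc : (Spec.map (CommRingCat.ofHom (Algebra.TensorProduct.includeLeftRingHom :
        Γ(Z, i ⁻¹ᵁ a ⁻¹ᵁ U) →+* Γ(Z, i ⁻¹ᵁ a ⁻¹ᵁ U) ⊗[Γ(S, Sa)] Γ(T, Ta))) ≫ ((hU.preimage a).preimage i).fromSpec) ≫ i =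
        (Spec.map (CommRingCat.ofHom (Algebra.TensorProduct.map p (AlgHom.id Γ(S, Sa) Γ(T, Ta))).toRingHom) ≫ uX) ≫ pX := by
      rw [Category.assoc, Category.assoc, huX, ← (hU.preimage a).SpecMap_appLE_fromSpec i ((hU.preimage a).preimage i) le_rfl,
        ← Spec.map_comp_assoc, ← Spec.map_comp_assoc]
      congr 1
    let w := hZT.lift _ _ hwc
    have hw₁ : w ≫ iT = Spec.map (CommRingCat.ofHom (Algebra.TensorProduct.map p (AlgHom.id _ _)).toRingHom) ≫ uX :=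
      hZT.lift_snd _ _ _
    have hw₂ : w ≫ jT = Spec.map (CommRingCat.ofHom (Algebra.TensorProduct.map q (AlgHom.id _ _)).toRingHom) ≫ vY := by
      refine hYT.hom_ext ?_ ?_
      · rw [Category.assoc, hj₁, ← Category.assoc, hZT.lift_fst, Category.assoc, Category.assoc, hvY,
          ← (hU.preimage b).SpecMap_appLE_fromSpec j ((hU.preimage a).preimage i) c.eq.le, ← Spec.map_comp_assoc,
          ← Spec.map_comp_assoc]
        congr 1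
      · rw [Category.assoc, ← hj₂, reassoc_of% hw₁, hu.w, Category.assoc, hv.w, ← Spec.map_comp_assoc,
          ← Spec.map_comp_assoc]
        congr 2
        exact CommRingCat.hom_ext (RingHom.ext hM.comm)
    refine ⟨⟨_, _, _, _, _, _, _, _, hM, φ, uX, vY, w, hw₁, hw₂, hu, hv⟩, ?_⟩
    have hr : hPT.isoPullback.hom x ∈ Set.range m := by
      rw [Scheme.Pullback.range_map]
      refine ⟨?_, ?_⟩
      · rw [Set.mem_preimage, ← Scheme.Hom.comp_apply, IsPullback.isoPullback_hom_fst, hU.range_fromSpec]; exact hxU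
      · rw [Set.mem_preimage, ← Scheme.Hom.comp_apply, IsPullback.isoPullback_hom_snd, hTa.range_fromSpec]; exact hxT
    obtain ⟨y, hy⟩ := hr
    refine ⟨hsq.isoPullback.inv y, ?_⟩
    show (hsq.isoPullback.inv ≫ φ) y = x
    rw [Iso.inv_hom_id_assoc]
    show hPT.isoPullback.inv (m y) = x
    rw [hy]
    exact congr($(hPT.isoPullback.hom_inv_id) x)
  choose M hM using key
  exact isPushout_of_models hj₂ M (fun x => ⟨x, hM x⟩)

end Groth.Agent.FlatAssocX
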