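import Groth.Agent.FlatAssocX.StdChart
import Groth.Agent.FlatAssocX.PushoutBC
import Groth.Prelude.Def_W4c3jacimperfPinch

/-!
# Base change of the pinching when the cokernel of functions is projective
-/

set_option autoImplicit false

universe u

open AlgebraicGeometry CategoryTheory CategoryTheory.Limits TopologicalSpace Opposite TensorProduct RingPO

namespace Groth.Agent.FlatAssocX

theorem faithfullyFlat_appLE {Z T : Scheme.{u}} (ξ : Z ⟶ T) [Flat ξ] [Surjective ξ] {O : T.Opens} {O' : Z.Opens}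
    (hO : IsAffineOpen O) (hO' : IsAffineOpen O') (he : O' = ξ ⁻¹ᵁ O) :
    (ξ.appLE O O' he.le).hom.FaithfullyFlat := by
  refine RingHom.FaithfullyFlat.iff_flat_and_comap_surjective.2 ⟨ξ.flat_appLE hO hO' he.le, fun p => ?_⟩
  obtain ⟨z, hz⟩ := ξ.surjective (hO.fromSpec p)
  have hzO : z ∈ O' := by
    rw [he]; show ξ z ∈ O; rw [hz]; exact hO.range_fromSpec.le ⟨p, rfl⟩
  obtain ⟨w, rfl⟩ := hO'.range_fromSpec.ge hzO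
  refine ⟨w, hO.fromSpec.isOpenEmbedding.injective ?_⟩
  rw [← hz]
  exact congr($(hO.SpecMap_appLE_fromSpec ξ hO' he.le) w)

variable {X Y T Z P : Scheme.{u}} {f : X ⟶ Y} {t : T ⟶ Y} {ξ : Z ⟶ T} {ι : Z ⟶ X}

/-- Projectivity of the cokernel of functions, for opens given up to equality. -/
theorem projective_coker {U : Y.Opens} {O : T.Opens} {O' : Z.Opens} (hOt : O = t ⁻¹ᵁ U) (he : O' = ξ ⁻¹ᵁ O)
    (hv : @Pinch.CokerProjective Γ(Y, U) Γ(Z, (ξ ≫ t) ⁻¹ᵁ U) Γ(T, t ⁻¹ᵁ U) _ _ _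
      ((ξ ≫ t).app U).hom.toAlgebra (ξ.app (t ⁻¹ᵁ U)).hom)
    [Algebra Γ(Y, U) Γ(T, O)] [alg : Algebra Γ(Y, U) Γ(Z, O')] (q : Γ(T, O) →ₐ[Γ(Y, U)] Γ(Z, O'))
    (hq : q.toRingHom = (ξ.appLE O O' he.le).hom)
    (halg : algebraMap Γ(Y, U) Γ(Z, O') = ((ξ ≫ t).appLE U O' (by subst hOt he; exact le_rfl)).hom) :
    Module.Projective Γ(Y, U) (Γ(Z, O') ⧸ LinearMap.range q.toLinearMap) := by
  subst hOt he
  have h1 : alg = ((ξ ≫ t).app U).hom.toAlgebra := by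
    refine Algebra.algebra_ext _ _ fun r => ?_
    refine (RingHom.congr_fun halg r).trans ?_
    show _ = ((ξ ≫ t).app U).hom r
    rw [Scheme.Hom.app_eq_appLE]
    rfl
  subst h1
  letI : Algebra Γ(Y, U) Γ(Z, ξ ⁻¹ᵁ t ⁻¹ᵁ U) := ((ξ ≫ t).app U).hom.toAlgebra
  have h2 : LinearMap.range q.toLinearMap =
      Submodule.span Γ(Y, U) (Set.range (ξ.app (t ⁻¹ᵁ U)).hom) := by
    have h3 : (Set.range (ξ.app (t ⁻¹ᵁ U)).hom) = LinearMap.range q.toLinearMap := by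
      rw [LinearMap.coe_range]
      refine congrArg Set.range (funext fun x => ?_)
      rw [Scheme.Hom.app_eq_appLE, ← hq]
      rfl
    rw [h3, Submodule.span_eq]
  rw [h2]
  exact hv

variable {a : X ⟶ P} {b : T ⟶ P}

theorem injStable_of_std [IsAffineHom t] [IsClosedImmersion ι] [IsAffineHom a] [Flat ξ] [Surjective ξ]
    (hsq : ι ≫ f = ξ ≫ t)
    (hstd : ∀ y : Y, ∃ U : Y.Opens, IsAffineOpen U ∧ y ∈ U ∧ ∃ V : X.Opens, IsAffineOpen V ∧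
      V ≤ f ⁻¹ᵁ U ∧ ∀ z : Z, (ξ ≫ t).base z ∈ U → ι.base z ∈ V)
    (hP : IsPushout ι ξ a b)
    (hv : ∀ U : Y.affineOpens, @Pinch.CokerProjective Γ(Y, U) Γ(Z, (ξ ≫ t) ⁻¹ᵁ U) Γ(T, t ⁻¹ᵁ U) _ _ _
      ((ξ ≫ t).app U).hom.toAlgebra (ξ.app (t ⁻¹ᵁ U)).hom)
    (p : P ⟶ Y) (hap : a ≫ p = f) (hbp : b ≫ p = t) (x : P) :
    ∃ (Sa : Y.Opens) (U : P.Opens) (_ : IsAffineOpen Sa) (_ : IsAffineOpen U) (_ : x ∈ U)
      (eS : U ≤ p ⁻¹ᵁ Sa), InjStable p a eS := by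
  have hY := StdChart.charts hsq hstd
  haveI := isClosedImmersion_inr hP hY
  obtain ⟨φ, hφ, hcov, h1, h2, h3, h4⟩ := exists_fibreProd_chart hP hY
  have main : ∀ (Sa : Y.Opens) (U : P.Opens) (hSa : IsAffineOpen Sa) (hU : IsAffineOpen U) (eS : U ≤ p ⁻¹ᵁ Sa),
      (b ⁻¹ᵁ U = t ⁻¹ᵁ Sa ∨ b ⁻¹ᵁ U = ⊥) → InjStable p a eS := by
    intro Sa U hSa hU eS hor R' _ _
    set c := chartOver hP hU
    have hF := isFibreProd_of_affineOpen hP hY hU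
    letI : Algebra Γ(Y, Sa) Γ(P, U) := (p.appLE Sa U eS).hom.toAlgebra
    letI : Algebra Γ(Y, Sa) Γ(X, a ⁻¹ᵁ U) :=
      ((a.appLE U (a ⁻¹ᵁ U) le_rfl).hom.comp (p.appLE Sa U eS).hom).toAlgebra
    letI : Algebra Γ(Y, Sa) Γ(T, b ⁻¹ᵁ U) :=
      ((b.appLE U (b ⁻¹ᵁ U) le_rfl).hom.comp (p.appLE Sa U eS).hom).toAlgebra
    letI : Algebra Γ(Y, Sa) Γ(Z, ι ⁻¹ᵁ a ⁻¹ᵁ U) :=
      (c.p.comp ((a.appLE U (a ⁻¹ᵁ U) le_rfl).hom.comp (p.appLE Sa U eS).hom)).toAlgebra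
    let α : Γ(P, U) →ₐ[Γ(Y, Sa)] Γ(X, a ⁻¹ᵁ U) :=
      { (a.appLE U (a ⁻¹ᵁ U) le_rfl).hom with commutes' := fun _ => rfl }
    let β : Γ(P, U) →ₐ[Γ(Y, Sa)] Γ(T, b ⁻¹ᵁ U) :=
      { (b.appLE U (b ⁻¹ᵁ U) le_rfl).hom with commutes' := fun _ => rfl }
    let cp : Γ(X, a ⁻¹ᵁ U) →+* Γ(Z, ι ⁻¹ᵁ a ⁻¹ᵁ U) := c.p
    let cq : Γ(T, b ⁻¹ᵁ U) →+* Γ(Z, ι ⁻¹ᵁ a ⁻¹ᵁ U) := c.q
    let pp : Γ(X, a ⁻¹ᵁ U) →ₐ[Γ(Y, Sa)] Γ(Z, ι ⁻¹ᵁ a ⁻¹ᵁ U) := { cp with commutes' := fun _ => rfl }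
    let q : Γ(T, b ⁻¹ᵁ U) →ₐ[Γ(Y, Sa)] Γ(Z, ι ⁻¹ᵁ a ⁻¹ᵁ U) :=
      { cq with commutes' := fun r => (hF.comm _).symm }
    have hF' : IsFibreProd pp.toRingHom q.toRingHom α.toRingHom β.toRingHom := hF
    show Function.Injective (α.toLinearMap.rTensor R')
    have hqinj : Function.Injective q :=
      (faithfullyFlat_appLE ξ (hU.preimage b) ((hU.preimage a).preimage ι) c.eq).injective
    haveI : Module.Projective Γ(Y, Sa) (Γ(Z, ι ⁻¹ᵁ a ⁻¹ᵁ U) ⧸ LinearMap.range q.toLinearMap) := by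
      rcases hor with ht | hbot
      · refine projective_coker (t := t) (O := b ⁻¹ᵁ U) (O' := ι ⁻¹ᵁ a ⁻¹ᵁ U) ht c.eq (hv ⟨Sa, hSa⟩) q rfl ?_
        show ((p.appLE Sa U eS ≫ a.appLE U (a ⁻¹ᵁ U) le_rfl) ≫
          ι.appLE (a ⁻¹ᵁ U) (ι ⁻¹ᵁ a ⁻¹ᵁ U) le_rfl).hom = _
        rw [Scheme.Hom.appLE_comp_appLE, Scheme.Hom.appLE_comp_appLE]
        simp only [hap, hsq]
      · have hz : ι ⁻¹ᵁ a ⁻¹ᵁ U = ⊥ := by
          rw [show ι ⁻¹ᵁ a ⁻¹ᵁ U = ξ ⁻¹ᵁ b ⁻¹ᵁ U from c.eq, hbot]; rfl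
        haveI : Subsingleton Γ(Z, ι ⁻¹ᵁ a ⁻¹ᵁ U) := by rw [hz]; infer_instance
        infer_instance
    exact rTensor_injective_of_projective_coker hF' hqinj R'
  by_cases hx : x ∈ Set.range b
  · obtain ⟨τ, rfl⟩ := hx
    obtain ⟨Sa, hSa, hτ, c, hcV, hcU⟩ := StdChart.exists_chart hsq hstd (t τ)
    haveI := hφ c
    have hb : b ⁻¹ᵁ (φ c).opensRange = t ⁻¹ᵁ Sa := (SetLike.coe_injective (h4 c)).trans hcV
    have ha : a ⁻¹ᵁ (φ c).opensRange = c.U := SetLike.coe_injective (h3 c)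
    have eS : (φ c).opensRange ≤ p ⁻¹ᵁ Sa := by
      intro y hy
      rcases exists_preimage_point hP hY y with ⟨w, rfl⟩ | ⟨w, rfl⟩
      · show (a ≫ p) w ∈ Sa
        rw [hap]; exact hcU (ha ▸ hy : w ∈ c.U)
      · show (b ≫ p) w ∈ Sa
        rw [hbp]; exact (hb ▸ hy : w ∈ t ⁻¹ᵁ Sa)
    exact ⟨Sa, _, hSa, isAffineOpen_opensRange _, (hb ▸ hτ : τ ∈ b ⁻¹ᵁ (φ c).opensRange), eS,
      main Sa _ hSa (isAffineOpen_opensRange _) eS (Or.inl hb)⟩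
  · obtain ⟨Sa, hSa, hxS, -⟩ := exists_isAffineOpen_mem_and_subset (x := p x) (U := (⊤ : Y.Opens)) (by simp)
    let W : P.Opens := p ⁻¹ᵁ Sa ⊓ ⟨(Set.range b)ᶜ, b.isClosedEmbedding.isClosed_range.isOpen_compl⟩
    obtain ⟨U, hU, hxU, hUW⟩ := exists_isAffineOpen_mem_and_subset (x := x) (U := W) ⟨hxS, hx⟩
    exact ⟨Sa, U, hSa, hU, hxU, fun y hy => (hUW hy).1, main Sa U hSa hU _ (Or.inr (le_bot_iff.1
      fun w hw => ((hUW hw).2 ⟨w, rfl⟩).elim))⟩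

end Groth.Agent.FlatAssocX
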