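import Groth.Agent.FlatAssocX.SpacePushout
import Groth.Agent.GrFlat5.Universal
import Mathlib

/-!
# Sections and flatness on a scheme which is a push-out of ringed spaces
-/

set_option autoImplicit false
set_option backward.isDefEq.respectTransparency false
set_option linter.style.haveILetI false

universe u

open CategoryTheory CategoryTheory.Limits AlgebraicGeometry TopologicalSpace Opposite TensorProduct

namespace Groth.Agent.FlatAssocX

theorem flat_of_exact {R B P Q : Type u} [CommRing R] [AddCommGroup B] [Module R B] [AddCommGroup P]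
    [Module R P] [AddCommGroup Q] [Module R Q] [Module.Flat R P] [Module.Flat R Q]
    (g : B →ₗ[R] P) (f : P →ₗ[R] Q) (hg : Function.Injective g) (hf : Function.Surjective f)
    (H : Function.Exact g f) : Module.Flat R B := by
  rw [Module.Flat.iff_lTensor_preserves_injective_linearMap]
  intro N N' _ _ _ _ L hL
  rw [LinearMap.lTensor_inj_iff_rTensor_inj]
  have h1 : Function.Injective (g.lTensor N) := LinearMap.lTensor_injective_of_exact_of_flat f hf g hg H N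
  have h2 : Function.Injective (L.rTensor P) := Module.Flat.rTensor_preserves_injective_linearMap L hL
  have h3 : Function.Injective ((g.lTensor N') ∘ₗ L.rTensor B) := by
    rw [LinearMap.lTensor_comp_rTensor, ← LinearMap.rTensor_comp_lTensor, LinearMap.coe_comp]
    exact h2.comp h1
  rw [LinearMap.coe_comp] at h3
  exact h3.of_comp

variable {X Z Z' X' : Scheme.{u}} {ι : Z ⟶ X} {q : Z ⟶ Z'} {π : X ⟶ X'} {ι' : Z' ⟶ X'}
  (hpo : IsPushout ((Scheme.forgetToLocallyRingedSpace ⋙ LocallyRingedSpace.forgetToSheafedSpace).map ι)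
    ((Scheme.forgetToLocallyRingedSpace ⋙ LocallyRingedSpace.forgetToSheafedSpace).map q)
    ((Scheme.forgetToLocallyRingedSpace ⋙ LocallyRingedSpace.forgetToSheafedSpace).map π)
    ((Scheme.forgetToLocallyRingedSpace ⋙ LocallyRingedSpace.forgetToSheafedSpace).map ι'))

include hpo

theorem preimage_eq (V : X'.Opens) : q ⁻¹ᵁ ι' ⁻¹ᵁ V = ι ⁻¹ᵁ π ⁻¹ᵁ V :=
  preimage_comp_eq (hpo.map SheafedSpace.forgetToPresheafedSpace).w V

theorem isPullback_app (V : X'.Opens) :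
    IsPullback (π.app V) (ι'.app V) (ι.app (π ⁻¹ᵁ V))
      (q.app (ι' ⁻¹ᵁ V) ≫ Z.presheaf.map (eqToHom (preimage_eq hpo V).symm).op) :=
  isPullback_pushout_sections (hpo.map SheafedSpace.forgetToPresheafedSpace) V

theorem exists_section (V : X'.Opens) (a : Γ(X, π ⁻¹ᵁ V)) (c : Γ(Z', ι' ⁻¹ᵁ V))
    (h : ι.app (π ⁻¹ᵁ V) a = (q.app (ι' ⁻¹ᵁ V) ≫ Z.presheaf.map (eqToHom (preimage_eq hpo V).symm).op) c) :
    ∃ b, π.app V b = a ∧ ι'.app V b = c := by
  have hp := isPullback_app hpo V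
  let e := hp.isoPullback ≪≫ (limit.isoLimitCone ⟨_, CommRingCat.pullbackConeIsLimit _ _⟩)
  let y : (CommRingCat.pullbackCone (ι.app (π ⁻¹ᵁ V))
      (q.app (ι' ⁻¹ᵁ V) ≫ Z.presheaf.map (eqToHom (preimage_eq hpo V).symm).op)).pt := ⟨(a, c), h⟩
  refine ⟨e.inv y, ?_, ?_⟩
  · have h1 : e.inv ≫ π.app V = (CommRingCat.pullbackCone _ _).fst := by
      simp [e]
    exact ConcreteCategory.congr_hom h1 y
  · have h1 : e.inv ≫ ι'.app V = (CommRingCat.pullbackCone _ _).snd := by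
      simp [e]
    exact ConcreteCategory.congr_hom h1 y

theorem sections_injective (V : X'.Opens) {b b' : Γ(X', V)} (h₁ : π.app V b = π.app V b')
    (h₂ : ι'.app V b = ι'.app V b') : b = b' :=
  ((Types.isPullback_iff _ _ _ _).1 ((isPullback_app hpo V).map (forget CommRingCat))).2.1 b b' ⟨h₁, h₂⟩

theorem flat_fX' {S : Scheme.{u}} (fX : X ⟶ S) (fZ' : Z' ⟶ S) (fX' : X' ⟶ S)
    [IsClosedImmersion ι] [IsClosedImmersion ι'] [IsAffineHom π] (hπ : π ≫ fX' = fX) (hι' : ι' ≫ fX' = fZ')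
    [Flat fX] [Flat (ι ≫ fX)] [Flat fZ'] : Flat fX' := by
  refine ⟨fun {U} hU {V} hV e => ?_⟩
  let cA := fX'.appLE U V e ≫ π.app V
  let cC := fX'.appLE U V e ≫ ι'.app V
  let res := q.app (ι' ⁻¹ᵁ V) ≫ Z.presheaf.map (eqToHom (preimage_eq hpo V).symm).op
  have hc : (cA ≫ ι.app (π ⁻¹ᵁ V)).hom = (cC ≫ res).hom := by
    simp only [cA, cC, res, Category.assoc, (isPullback_app hpo V).w]
  letI : Algebra Γ(S, U) Γ(X', V) := (fX'.appLE U V e).hom.toAlgebra
  letI : Algebra Γ(S, U) Γ(X, π ⁻¹ᵁ V) := cA.hom.toAlgebra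
  letI : Algebra Γ(S, U) Γ(Z', ι' ⁻¹ᵁ V) := cC.hom.toAlgebra
  letI : Algebra Γ(S, U) Γ(Z, ι ⁻¹ᵁ π ⁻¹ᵁ V) := (cA ≫ ι.app (π ⁻¹ᵁ V)).hom.toAlgebra
  haveI : Module.Flat Γ(S, U) Γ(X, π ⁻¹ᵁ V) := by
    have h : cA.hom.Flat := by
      rw [show cA = fX.appLE U (π ⁻¹ᵁ V) (by rw [← hπ]; exact π.preimage_mono e) by
        subst hπ; simp only [cA, Category.assoc, Scheme.Hom.app_eq_appLE]; simp only [Scheme.Hom.appLE_comp_appLE]]
      exact Scheme.Hom.flat_appLE _ hU (hV.preimage π) _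
    exact h
  haveI : Module.Flat Γ(S, U) Γ(Z', ι' ⁻¹ᵁ V) := by
    have h : cC.hom.Flat := by
      rw [show cC = fZ'.appLE U (ι' ⁻¹ᵁ V) (by rw [← hι']; exact ι'.preimage_mono e) by
        subst hι'; simp only [cC, Category.assoc, Scheme.Hom.app_eq_appLE]; simp only [Scheme.Hom.appLE_comp_appLE]]
      exact Scheme.Hom.flat_appLE _ hU (hV.preimage ι') _
    exact h
  haveI : Module.Flat Γ(S, U) Γ(Z, ι ⁻¹ᵁ π ⁻¹ᵁ V) := by
    have h : (cA ≫ ι.app (π ⁻¹ᵁ V)).hom.Flat := by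
      rw [show cA ≫ ι.app (π ⁻¹ᵁ V) = (ι ≫ fX).appLE U (ι ⁻¹ᵁ π ⁻¹ᵁ V)
          (by rw [← hπ]; exact ι.preimage_mono (π.preimage_mono e)) by
        subst hπ
        simp only [cA, Category.assoc, Scheme.Hom.app_eq_appLE]
        rw [Scheme.Hom.appLE_comp_appLE, Scheme.Hom.appLE_comp_appLE]
        simp only [Category.assoc]]
      exact Scheme.Hom.flat_appLE _ hU ((hV.preimage π).preimage ι) _
    exact h
  show Module.Flat Γ(S, U) Γ(X', V)
  let α : Γ(X', V) →ₗ[Γ(S, U)] Γ(X, π ⁻¹ᵁ V) × Γ(Z', ι' ⁻¹ᵁ V) :=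
    { toFun := fun b => (π.app V b, ι'.app V b)
      map_add' := fun x y => by simp
      map_smul' := fun r x => by
        simp only [Algebra.smul_def, map_mul, RingHom.id_apply, Prod.smul_mk]
        rfl }
  let β : Γ(X, π ⁻¹ᵁ V) × Γ(Z', ι' ⁻¹ᵁ V) →ₗ[Γ(S, U)] Γ(Z, ι ⁻¹ᵁ π ⁻¹ᵁ V) :=
    { toFun := fun p => ι.app (π ⁻¹ᵁ V) p.1 - res p.2
      map_add' := fun x y => by simp only [Prod.fst_add, Prod.snd_add, map_add]; abel
      map_smul' := fun r x => by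
        have h1 : ι.app (π ⁻¹ᵁ V) (cA r) = res (cC r) := RingHom.congr_fun hc r
        show ι.app (π ⁻¹ᵁ V) (cA r * x.1) - res (cC r * x.2) = (ι.app (π ⁻¹ᵁ V) (cA r)) * (ι.app (π ⁻¹ᵁ V) x.1 - res x.2)
        rw [map_mul, map_mul, ← h1, mul_sub] }
  haveI : Module.Flat Γ(S, U) (Γ(X, π ⁻¹ᵁ V) × Γ(Z', ι' ⁻¹ᵁ V)) := Groth.Agent.GrFlat5.flat_prod
  refine flat_of_exact α β ?_ ?_ ?_
  · intro b b' hb
    exact sections_injective hpo V (congrArg Prod.fst hb) (congrArg Prod.snd hb)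
  · intro z
    obtain ⟨a, ha⟩ := ι.app_surjective (π ⁻¹ᵁ V) (hV.preimage π) z
    exact ⟨(a, 0), by simp [β, ha]⟩
  · intro p
    constructor
    · intro hp
      obtain ⟨b, hb₁, hb₂⟩ := exists_section hpo V p.1 p.2 (sub_eq_zero.1 hp)
      exact ⟨b, Prod.ext hb₁ hb₂⟩
    · rintro ⟨b, rfl⟩
      exact sub_eq_zero.2 (ConcreteCategory.congr_hom (isPullback_app hpo V).w b)

end Groth.Agent.FlatAssocX
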