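import Groth.Agent.FlatAssocX.PullFrame
import Groth.Agent.FlatAssocX.SchemePushout
import Groth.Agent.Coh32.BaseChangeComp

/-!
# Full faithfulness of descent of locally free modules along a push-out of ringed spaces
-/

set_option autoImplicit false

universe u

open CategoryTheory CategoryTheory.Limits AlgebraicGeometry TopologicalSpace Opposite

namespace Groth.Agent.FlatAssocX.PinchHom

open Groth.Agent.H23.Frame Groth.Agent.AModX Groth.Agent.FlatAssocX.PullFrame

variable {X Y Z T : Scheme.{u}}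

theorem pullS_comp (f : X ⟶ Y) (g : Y ⟶ T) (M : T.Modules) {U : T.Opens} (x : Γ(M, U)) :
    ((Scheme.Modules.pullbackComp f g).hom.app M).app (f ⁻¹ᵁ (g ⁻¹ᵁ U)) (pullS f _ (pullS g M x)) =
      pullS (f ≫ g) M x := by
  show _ = ((Scheme.Modules.pullbackPushforwardAdjunction (f ≫ g)).unit.app M).app U x
  rw [Coh32.unit_pullbackComp]
  simp only [Scheme.Modules.Hom.comp_app, Scheme.Modules.pushforwardComp_hom_app_app,
    Scheme.Modules.pushforward_map_app, Category.id_comp]
  rfl

variable (fX : Z ⟶ X) (fY : Z ⟶ Y) (gX : X ⟶ T) (gY : Y ⟶ T) (hw : fX ≫ gX = fY ≫ gY)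

/-- The canonical isomorphism between the two inverse images on `Z`. -/
noncomputable abbrev xi (P : T.Modules) :
    (Scheme.Modules.pullback fX).obj ((Scheme.Modules.pullback gX).obj P) ≅
      (Scheme.Modules.pullback fY).obj ((Scheme.Modules.pullback gY).obj P) :=
  (Scheme.Modules.pullbackComp fX gX).app P ≪≫ (Scheme.Modules.pullbackCongr hw).app P ≪≫
    ((Scheme.Modules.pullbackComp fY gY).app P).symm

include hw in
theorem preimage_le (U : T.Opens) : fX ⁻¹ᵁ (gX ⁻¹ᵁ U) ≤ fY ⁻¹ᵁ (gY ⁻¹ᵁ U) := by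
  change (fX ≫ gX) ⁻¹ᵁ U ≤ (fY ≫ gY) ⁻¹ᵁ U
  rw [hw]

theorem congr_pullS {f g : Z ⟶ T} (hfg : f = g) (M : T.Modules) {U : T.Opens}
    (h : f ⁻¹ᵁ U ≤ g ⁻¹ᵁ U) (x : Γ(M, U)) :
    ((Scheme.Modules.pullbackCongr hfg).hom.app M).app (f ⁻¹ᵁ U) (pullS f M x) = res _ h (pullS g M x) := by
  subst hfg
  simp [Scheme.Modules.pullbackCongr]

theorem xi_pullS (P : T.Modules) {U : T.Opens} (s : Γ(P, U)) :
    (xi fX fY gX gY hw P).hom.app (fX ⁻¹ᵁ (gX ⁻¹ᵁ U)) (pullS fX _ (pullS gX P s)) =
      res _ (preimage_le fX fY gX gY hw U) (pullS fY _ (pullS gY P s)) := by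
  show ((Scheme.Modules.pullbackComp fY gY).inv.app P).app _
    (((Scheme.Modules.pullbackCongr hw).hom.app P).app _
      (((Scheme.Modules.pullbackComp fX gX).hom.app P).app _ (pullS fX _ (pullS gX P s)))) = _
  rw [pullS_comp]
  refine (congrArg (((Scheme.Modules.pullbackComp fY gY).inv.app P).app _)
    (congr_pullS hw P (preimage_le fX fY gX gY hw U) s)).trans ?_
  refine (app_res ((Scheme.Modules.pullbackComp fY gY).inv.app P) _ _).trans ?_
  refine congrArg (res _ _) ?_
  rw [← pullS_comp]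
  exact ConcreteCategory.congr_hom (congrArg (fun q => Scheme.Modules.Hom.app q _)
    ((Scheme.Modules.pullbackComp fY gY).hom_inv_id_app P)) _

/-- Sections of the two inverse images agreeing on `Z`. -/
def Compat (P : T.Modules) (U : T.Opens) (x : Γ((Scheme.Modules.pullback gX).obj P, gX ⁻¹ᵁ U))
    (y : Γ((Scheme.Modules.pullback gY).obj P, gY ⁻¹ᵁ U)) : Prop :=
  (xi fX fY gX gY hw P).hom.app (fX ⁻¹ᵁ (gX ⁻¹ᵁ U)) (pullS fX _ x) =
    res _ (preimage_le fX fY gX gY hw U) (pullS fY _ y)

theorem compat_res {P : T.Modules} {U V : T.Opens} (h : V ≤ U)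
    {x : Γ((Scheme.Modules.pullback gX).obj P, gX ⁻¹ᵁ U)} {y : Γ((Scheme.Modules.pullback gY).obj P, gY ⁻¹ᵁ U)}
    (hc : Compat fX fY gX gY hw P U x y) :
    Compat fX fY gX gY hw P V (res _ (gX.preimage_mono h) x) (res _ (gY.preimage_mono h) y) := by
  have h' := congrArg (res _ (fX.preimage_mono (gX.preimage_mono h))) hc
  rw [res_res, ← app_res] at h'
  unfold Compat
  rw [pullS_res, pullS_res, res_res]
  exact h'

variable (hpo : IsPushout ((Scheme.forgetToLocallyRingedSpace ⋙ LocallyRingedSpace.forgetToSheafedSpace).map fX)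
    ((Scheme.forgetToLocallyRingedSpace ⋙ LocallyRingedSpace.forgetToSheafedSpace).map fY)
    ((Scheme.forgetToLocallyRingedSpace ⋙ LocallyRingedSpace.forgetToSheafedSpace).map gX)
    ((Scheme.forgetToLocallyRingedSpace ⋙ LocallyRingedSpace.forgetToSheafedSpace).map gY))

/-- An open over which sections are determined by their inverse images. -/
def Good (P : T.Modules) (U : T.Opens) : Prop :=
  (∀ n n' : Γ(P, U), pullS gX P n = pullS gX P n' → pullS gY P n = pullS gY P n' → n = n') ∧
    ∀ x y, Compat fX fY gX gY hw P U x y → ∃ n : Γ(P, U), pullS gX P n = x ∧ pullS gY P n = y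

include hpo in
theorem good_of_frame {P : T.Modules} {U : T.Opens} {k : ℕ}
    (e : P.restrict U.ι ≅ FlatMod.freeMod (U : Scheme.{u}) k) (V : T.Opens) (hV : V ≤ U) :
    Good fX fY gX gY hw P V := by
  obtain ⟨s, hs, hsf⟩ := exists_frame_pullS e
  have exX : ∀ (c : Fin k → Γ(T, V)), pullS gX P (comb P s V hV c) =
      comb _ (fun i => pullS gX P (s i)) (gX ⁻¹ᵁ V) (gX.preimage_mono hV) (fun i => gX.app V (c i)) := by
    intro c
    simp only [comb_eq, pullS_sum, pullS_smul, pullS_res]
  have exY : ∀ (c : Fin k → Γ(T, V)), pullS gY P (comb P s V hV c) =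
      comb _ (fun i => pullS gY P (s i)) (gY ⁻¹ᵁ V) (gY.preimage_mono hV) (fun i => gY.app V (c i)) := by
    intro c
    simp only [comb_eq, pullS_sum, pullS_smul, pullS_res]
  constructor
  · intro n n' hX hY
    obtain ⟨c, rfl⟩ := (hs V hV).2 n
    obtain ⟨c', rfl⟩ := (hs V hV).2 n'
    rw [exX, exX] at hX
    rw [exY, exY] at hY
    have h1 := (hsf gX _ _).1 hX
    have h2 := (hsf gY _ _).1 hY
    refine congrArg _ (funext fun i => ?_)
    exact sections_injective hpo V (congrFun h1 i) (congrFun h2 i)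
  · intro x y hxy
    obtain ⟨a, ha⟩ := (hsf gX (gX ⁻¹ᵁ V) (gX.preimage_mono hV)).2 x
    obtain ⟨c, hc⟩ := (hsf gY (gY ⁻¹ᵁ V) (gY.preimage_mono hV)).2 y
    subst ha hc
    let W := fX ⁻¹ᵁ (gX ⁻¹ᵁ V)
    let Q := (Scheme.Modules.pullback fY).obj ((Scheme.Modules.pullback gY).obj P)
    let hle := preimage_le fX fY gX gY hw V
    let w : Fin k → Γ(Q, fY ⁻¹ᵁ (gY ⁻¹ᵁ U)) := fun i => pullS fY _ (pullS gY P (s i))
    have hw' : IsFrame Q w := by
      have hf := hsf (fY ≫ gY)
      have h1 := PullFrame.isFrame_map_iso ((Scheme.Modules.pullbackComp fY gY).app P).symm hf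
      refine (congrArg (IsFrame Q) (funext fun i => ?_)).mp h1
      show ((Scheme.Modules.pullbackComp fY gY).inv.app P).app _ (pullS (fY ≫ gY) P (s i)) = _
      rw [← pullS_comp]
      exact ConcreteCategory.congr_hom (congrArg (fun q => Scheme.Modules.Hom.app q _)
        ((Scheme.Modules.pullbackComp fY gY).hom_inv_id_app P)) _
    have hL : (xi fX fY gX gY hw P).hom.app W (pullS fX _ (comb _ (fun i => pullS gX P (s i)) (gX ⁻¹ᵁ V)
          (gX.preimage_mono hV) a)) =
        comb Q w W (hle.trans (fY.preimage_mono (gY.preimage_mono hV))) (fun i => fX.app _ (a i)) := by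
      simp only [comb_eq, pullS_sum, pullS_smul, pullS_res, map_sum, Scheme.Modules.Hom.app_smul,
        app_res, xi_pullS, W]
      refine Finset.sum_congr rfl fun i _ => ?_
      rw [res_res]
    have hR : res Q hle (pullS fY _ (comb _ (fun i => pullS gY P (s i)) (gY ⁻¹ᵁ V)
          (gY.preimage_mono hV) c)) =
        comb Q w W (hle.trans (fY.preimage_mono (gY.preimage_mono hV)))
          (fun i => resR hle (fY.app _ (c i))) := by
      simp only [comb_eq, pullS_sum, pullS_smul, pullS_res, map_sum, res_smul, res_res, w, Q]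
    have hcoef : (fun i => fX.app _ (a i)) = fun i => resR hle (fY.app _ (c i)) :=
      (hw' W (hle.trans (fY.preimage_mono (gY.preimage_mono hV)))).1 (hL.symm.trans (hxy.trans hR))
    choose b hb₁ hb₂ using fun i => exists_section hpo V (a i) (c i) (congrFun hcoef i)
    refine ⟨comb P s V hV b, ?_, ?_⟩
    · rw [exX]; simp only [hb₁]
    · rw [exY]; simp only [hb₂]

include hpo in
theorem good_of_isFinLocFree {P : T.Modules} (hP : FlatMod.IsFinLocFree P) (V : T.Opens) :
    Good fX fY gX gY hw P V := by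
  choose U k hU e using hP
  have hloc : ∀ p, Good fX fY gX gY hw P (V ⊓ U p) := fun p =>
    good_of_frame fX fY gX gY hw hpo (e p).some _ inf_le_right
  constructor
  · intro n n' hX hY
    refine eq_of_locally n n' fun p hp => ⟨V ⊓ U p, inf_le_left, ⟨hp, hU p⟩, ?_⟩
    refine (hloc p).1 _ _ ?_ ?_
    · rw [pullS_res, pullS_res, hX]
    · rw [pullS_res, pullS_res, hY]
  · intro x y hxy
    have hx : ∀ p : T, ∃ n : Γ(P, V ⊓ U p), pullS gX P n = res _ (gX.preimage_mono inf_le_left) x ∧
        pullS gY P n = res _ (gY.preimage_mono inf_le_left) y :=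
      fun p => (hloc p).2 _ _ (compat_res fX fY gX gY hw inf_le_left hxy)
    choose n hn₁ hn₂ using hx
    have hcompat : ∀ p q, res P inf_le_left (n p) = res P (inf_le_right : (V ⊓ U p) ⊓ (V ⊓ U q) ≤ V ⊓ U q) (n q) := by
      intro p q
      refine (good_of_frame fX fY gX gY hw hpo (e p).some _ (inf_le_left.trans inf_le_right)).1 _ _ ?_ ?_
      · rw [pullS_res, pullS_res, hn₁, hn₁, res_res, res_res]
      · rw [pullS_res, pullS_res, hn₂, hn₂, res_res, res_res]
    obtain ⟨N, hN, -⟩ := existsUnique_glue (fun p : T => V ⊓ U p) (fun p => inf_le_left)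
      (fun p hp => ⟨p, hp, hU p⟩) n hcompat
    refine ⟨N, ?_, ?_⟩
    · refine eq_of_locally _ _ fun z hz => ⟨gX ⁻¹ᵁ (V ⊓ U (gX z)), gX.preimage_mono inf_le_left,
        ⟨hz, hU _⟩, ?_⟩
      rw [← pullS_res gX P (inf_le_left : V ⊓ U (gX z) ≤ V), hN, hn₁]
    · refine eq_of_locally _ _ fun z hz => ⟨gY ⁻¹ᵁ (V ⊓ U (gY z)), gY.preimage_mono inf_le_left,
        ⟨hz, hU _⟩, ?_⟩
      rw [← pullS_res gY P (inf_le_left : V ⊓ U (gY z) ≤ V), hN, hn₂]

variable {M N : T.Modules}

theorem pullback_map_eq (g : X ⟶ T) {φ : M ⟶ N} {a : (Scheme.Modules.pullback g).obj M ⟶ (Scheme.Modules.pullback g).obj N}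
    (h : ∀ (U : T.Opens) (m : Γ(M, U)), pullS g N (φ.app U m) = a.app (g ⁻¹ᵁ U) (pullS g M m)) :
    (Scheme.Modules.pullback g).map φ = a := by
  apply ((Scheme.Modules.pullbackPushforwardAdjunction g).homEquiv _ _).injective
  rw [Adjunction.homEquiv_unit, Adjunction.homEquiv_unit]
  refine Scheme.Modules.hom_ext _ _ fun U => ?_
  ext m
  exact (pullS_map g φ m).trans (h U m)

include hpo in
theorem fullyFaithful (hN : FlatMod.IsFinLocFree N) :
    (∀ φ ψ : M ⟶ N, (Scheme.Modules.pullback gX).map φ = (Scheme.Modules.pullback gX).map ψ →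
        (Scheme.Modules.pullback gY).map φ = (Scheme.Modules.pullback gY).map ψ → φ = ψ) ∧
      ∀ (a : (Scheme.Modules.pullback gX).obj M ⟶ (Scheme.Modules.pullback gX).obj N)
        (b : (Scheme.Modules.pullback gY).obj M ⟶ (Scheme.Modules.pullback gY).obj N),
        (Scheme.Modules.pullback fX).map a ≫ (xi fX fY gX gY hw N).hom =
          (xi fX fY gX gY hw M).hom ≫ (Scheme.Modules.pullback fY).map b →
        ∃ φ : M ⟶ N, (Scheme.Modules.pullback gX).map φ = a ∧ (Scheme.Modules.pullback gY).map φ = b := by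
  have good := good_of_isFinLocFree fX fY gX gY hw hpo hN
  refine ⟨fun φ ψ hX hY => Scheme.Modules.hom_ext _ _ fun V => ?_, fun a b hab => ?_⟩
  · ext m
    refine (good V).1 _ _ ?_ ?_
    · rw [← pullS_map, ← pullS_map, hX]
    · rw [← pullS_map, ← pullS_map, hY]
  · have hc : ∀ (V : T.Opens) (m : Γ(M, V)), Compat fX fY gX gY hw N V
        (a.app _ (pullS gX M m)) (b.app _ (pullS gY M m)) := by
      intro V m
      unfold Compat
      rw [← pullS_map, ← pullS_map]
      have h := ConcreteCategory.congr_hom (congrArg (fun q => Scheme.Modules.Hom.app q (fX ⁻¹ᵁ (gX ⁻¹ᵁ V))) hab)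
        (pullS fX _ (pullS gX M m))
      refine h.trans ?_
      show ((Scheme.Modules.pullback fY).map b).app _ ((xi fX fY gX gY hw M).hom.app _ _) = _
      rw [xi_pullS, app_res]
    choose φ hφ₁ hφ₂ using fun V m => (good V).2 _ _ (hc V m)
    have hadd : ∀ V (m m' : Γ(M, V)), φ V (m + m') = φ V m + φ V m' := fun V m m' =>
      (good V).1 _ _ (by simp only [pullS_add, hφ₁, map_add]) (by simp only [pullS_add, hφ₂, map_add])
    let φ' : M ⟶ N :=
      { val := PresheafOfModules.homMk
          { app := fun V => AddCommGrpCat.ofHom (AddMonoidHom.mk' (φ (unop V)) (hadd (unop V)))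
            naturality := fun V W i => by
              ext m
              show φ (unop W) (res M i.unop.le m) = res N i.unop.le (φ (unop V) m)
              refine (good _).1 _ _ ?_ ?_
              · rw [hφ₁, pullS_res, pullS_res, hφ₁, app_res]
              · rw [hφ₂, pullS_res, pullS_res, hφ₂, app_res] }
          fun V (r : Γ(T, unop V)) (m : Γ(M, unop V)) => (good (unop V)).1 _ _
            (by
              show pullS gX N (φ (unop V) (r • m)) = pullS gX N (r • φ (unop V) m)
              rw [hφ₁, pullS_smul, pullS_smul, hφ₁, Scheme.Modules.Hom.app_smul])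
            (by
              show pullS gY N (φ (unop V) (r • m)) = pullS gY N (r • φ (unop V) m)
              rw [hφ₂, pullS_smul, pullS_smul, hφ₂, Scheme.Modules.Hom.app_smul]) }
    exact ⟨φ', pullback_map_eq gX fun V m => hφ₁ V m, pullback_map_eq gY fun V m => hφ₂ V m⟩

end Groth.Agent.FlatAssocX.PinchHom
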