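import Groth.Agent.FlatAssocX.MilnorDescent
import Groth.Agent.QCoh.LocFree
import Groth.Agent.QCoh.ClosedPush
import Groth.Agent.FittX.Sheaf
import Groth.Agent.LimitsH94.LimMod

/-!
# Quasi-coherent modules on a pinched scheme
-/

set_option autoImplicit false
set_option backward.isDefEq.respectTransparency false
set_option backward.isDefEq.respectTransparency.types false
set_option linter.style.haveILetI false

universe u

open CategoryTheory CategoryTheory.Limits AlgebraicGeometry TopologicalSpace TensorProduct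

namespace Groth.Agent.FlatAssocX.PinchMod

open Groth.Agent

variable {X Y : Scheme.{u}} (φ : X ⟶ Y) [IsAffineHom φ] (G : Y.Modules)

/-- Sections of the inverse image along an affine morphism. -/
theorem exists_secEquiv (hG : Coh.IsQCoh G) (V : Y.affineOpens) :
    letI := (φ.app V.1).hom.toAlgebra
    Nonempty (Γ(X, φ ⁻¹ᵁ V.1) ⊗[Γ(Y, V.1)] Γ(G, V.1) ≃ₗ[Γ(X, φ ⁻¹ᵁ V.1)]
      Γ((Scheme.Modules.pullback φ).obj G, φ ⁻¹ᵁ V.1)) := by
  let N := (Scheme.Modules.pullback φ).obj G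
  letI : Algebra Γ(Y, V.1) Γ(X, φ ⁻¹ᵁ V.1) := (φ.app V.1).hom.toAlgebra
  letI : Module Γ(Y, V.1) Γ(N, φ ⁻¹ᵁ V.1) := Module.compHom _ (φ.app V.1).hom
  haveI : IsScalarTower Γ(Y, V.1) Γ(X, φ ⁻¹ᵁ V.1) Γ(N, φ ⁻¹ᵁ V.1) :=
    ⟨fun a b c => mul_smul ((φ.app V.1).hom a) b c⟩
  let l : Γ(G, V.1) →ₗ[Γ(Y, V.1)] Γ(N, φ ⁻¹ᵁ V.1) :=
    { toFun := QCoh.pullSec φ G le_rfl
      map_add' := QCoh.pullSec_add φ G le_rfl
      map_smul' := fun r x => (QCoh.pullSec_smul φ G le_rfl r x).trans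
        (congrArg (fun t => (t : Γ(X, φ ⁻¹ᵁ V.1)) • QCoh.pullSec φ G le_rfl x)
          (by rw [← Scheme.Hom.app_eq_appLE]; rfl)) }
  exact ⟨(QCoh.isBaseChange_pullback V.2 φ (V.2.preimage φ) hG le_rfl
    (fun r => by rw [← Scheme.Hom.app_eq_appLE]; rfl) l fun x => rfl).equiv⟩

theorem isFlat_pullback {X Y : Scheme.{u}} (φ : X ⟶ Y) [IsAffineHom φ] (G : Y.Modules)
    (hG : Coh.IsQCoh G) (hfl : FlatMod.IsFlat G) : FlatMod.IsFlat ((Scheme.Modules.pullback φ).obj G) := by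
  intro x
  obtain ⟨_, ⟨V, hV, rfl⟩, hxV, -⟩ :=
    Y.isBasis_affineOpens.exists_subset_of_mem_open (Set.mem_univ (φ.base x)) isOpen_univ
  letI := (φ.app V).hom.toAlgebra
  obtain ⟨e⟩ := exists_secEquiv φ G hG ⟨V, hV⟩
  have hV' : IsAffineOpen V := hV
  haveI := (QCoh.isFlat_iff hG).1 hfl ⟨V, hV⟩
  haveI := Module.Flat.of_linearEquiv (R := Γ(X, φ ⁻¹ᵁ V)) e.symm
  exact (QCoh.flat_sections_iff (QCoh.isQCoh_pullback φ hG) (hV'.preimage φ)).1 inferInstance x hxV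

variable {X' Y' : Scheme.{u}} {f : X ⟶ Y} {u : Y' ⟶ Y} [IsAffineHom f] [IsClosedImmersion u]
  (hM : ∀ V ∈ Y.affineOpens,
    RingHom.ker (f.app V).hom ⊓ RingHom.ker (u.app V).hom = ⊥ ∧
    ∀ a ∈ Ideal.map (f.app V).hom (RingHom.ker (u.app V).hom),
      ∃ i ∈ RingHom.ker (u.app V).hom, (f.app V).hom i = a)

include hM

theorem isMilnor (V : Y.affineOpens) :
    letI := (f.app V.1).hom.toAlgebra; letI := (u.app V.1).hom.toAlgebra
    Milnor.IsMilnor Γ(Y, V.1) Γ(X, f ⁻¹ᵁ V.1) Γ(Y', u ⁻¹ᵁ V.1) :=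
  letI := (f.app V.1).hom.toAlgebra; letI := (u.app V.1).hom.toAlgebra
  ⟨u.app_surjective V.1 V.2, (hM V.1 V.2).1, (hM V.1 V.2).2⟩

variable {G}

theorem isZero (hG : Coh.IsQCoh G) (h1 : IsZero ((Scheme.Modules.pullback u).obj G))
    (h2 : IsZero ((Scheme.Modules.pullback f).obj G)) : IsZero G := by
  refine QCoh.isZero_of_cover hG (fun V : Y.affineOpens => V.1) (fun V => V.2) (fun y => ?_) fun V => ?_
  · obtain ⟨_, ⟨V, hV, rfl⟩, hyV, -⟩ :=
      Y.isBasis_affineOpens.exists_subset_of_mem_open (Set.mem_univ y) isOpen_univ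
    exact ⟨⟨V, hV⟩, hyV⟩
  · letI := (f.app V.1).hom.toAlgebra; letI := (u.app V.1).hom.toAlgebra
    obtain ⟨eA⟩ := exists_secEquiv f G hG V
    obtain ⟨eB⟩ := exists_secEquiv u G hG V
    have z : ∀ {Z : Scheme.{u}} {N : Z.Modules} (_ : IsZero N) (W : Z.Opens), Subsingleton Γ(N, W) :=
      fun {Z N} hN W => subsingleton_of_forall_eq 0 fun s => by
        have := congrArg (fun ψ : N ⟶ N => ψ.app W s) ((IsZero.iff_id_eq_zero N).1 hN)
        simpa using this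
    haveI := z h1 (u ⁻¹ᵁ V.1); haveI := z h2 (f ⁻¹ᵁ V.1)
    haveI := eA.toEquiv.subsingleton
    haveI := eB.toEquiv.subsingleton
    exact Milnor.subsingleton (isMilnor hM V)

theorem isFlat_iff (hG : Coh.IsQCoh G) :
    FlatMod.IsFlat G ↔
      FlatMod.IsFlat ((Scheme.Modules.pullback u).obj G) ∧ FlatMod.IsFlat ((Scheme.Modules.pullback f).obj G) := by
  refine ⟨fun h => ⟨isFlat_pullback u G hG h, isFlat_pullback f G hG h⟩, fun ⟨h1, h2⟩ => (QCoh.isFlat_iff hG).2 fun V => ?_⟩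
  letI := (f.app V.1).hom.toAlgebra; letI := (u.app V.1).hom.toAlgebra
  obtain ⟨eA⟩ := exists_secEquiv f G hG V
  obtain ⟨eB⟩ := exists_secEquiv u G hG V
  haveI := (QCoh.isFlat_iff (QCoh.isQCoh_pullback u hG)).1 h1 ⟨_, V.2.preimage u⟩
  haveI := (QCoh.isFlat_iff (QCoh.isQCoh_pullback f hG)).1 h2 ⟨_, V.2.preimage f⟩
  haveI := Module.Flat.of_linearEquiv eA
  haveI := Module.Flat.of_linearEquiv eB
  exact Milnor.flat (isMilnor hM V)

theorem isFT_iff (hG : Coh.IsQCoh G) :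
    CohB1.IsFT G ↔
      CohB1.IsFT ((Scheme.Modules.pullback u).obj G) ∧ CohB1.IsFT ((Scheme.Modules.pullback f).obj G) := by
  refine ⟨fun h => ⟨FittX.isFT_pullback u hG h, FittX.isFT_pullback f hG h⟩, fun ⟨h1, h2⟩ => (QCoh.isFT_iff hG).2 fun V => ?_⟩
  letI := (f.app V.1).hom.toAlgebra; letI := (u.app V.1).hom.toAlgebra
  obtain ⟨eA⟩ := exists_secEquiv f G hG V
  obtain ⟨eB⟩ := exists_secEquiv u G hG V
  haveI := (QCoh.isFT_iff (QCoh.isQCoh_pullback u hG)).1 h1 ⟨_, V.2.preimage u⟩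
  haveI := (QCoh.isFT_iff (QCoh.isQCoh_pullback f hG)).1 h2 ⟨_, V.2.preimage f⟩
  haveI := Module.Finite.equiv eA.symm
  haveI := Module.Finite.equiv eB.symm
  exact Milnor.finite (isMilnor hM V)

theorem isFinLocFree_iff (hG : Coh.IsQCoh G) :
    FlatMod.IsFinLocFree G ↔
      FlatMod.IsFinLocFree ((Scheme.Modules.pullback u).obj G) ∧
        FlatMod.IsFinLocFree ((Scheme.Modules.pullback f).obj G) := by
  simp only [← QCoh.isFlat_and_isFP_iff]
  refine ⟨fun ⟨h, hp⟩ => ⟨⟨isFlat_pullback u G hG h, LimitsH94.LM.isFP_pullback u hp⟩,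
    ⟨isFlat_pullback f G hG h, LimitsH94.LM.isFP_pullback f hp⟩⟩,
    fun ⟨⟨h1, p1⟩, ⟨h2, p2⟩⟩ => ⟨(isFlat_iff hM hG).2 ⟨h1, h2⟩, (QCoh.isFP_iff hG).2 fun V => ?_⟩⟩
  letI := (f.app V.1).hom.toAlgebra; letI := (u.app V.1).hom.toAlgebra
  obtain ⟨eA⟩ := exists_secEquiv f G hG V
  obtain ⟨eB⟩ := exists_secEquiv u G hG V
  haveI := (QCoh.isFP_iff (QCoh.isQCoh_pullback u hG)).1 p1 ⟨_, V.2.preimage u⟩
  haveI := (QCoh.isFP_iff (QCoh.isQCoh_pullback f hG)).1 p2 ⟨_, V.2.preimage f⟩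
  haveI := (QCoh.isFlat_iff (QCoh.isQCoh_pullback u hG)).1 h1 ⟨_, V.2.preimage u⟩
  haveI := (QCoh.isFlat_iff (QCoh.isQCoh_pullback f hG)).1 h2 ⟨_, V.2.preimage f⟩
  haveI := Module.Flat.of_linearEquiv eA
  haveI := Module.Flat.of_linearEquiv eB
  haveI := Module.FinitePresentation.of_equiv eA.symm
  haveI := Module.FinitePresentation.of_equiv eB.symm
  exact Milnor.finitePresentation (isMilnor hM V)

end Groth.Agent.FlatAssocX.PinchMod
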