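import Groth.Prelude.Def_ega3
import Mathlib.Algebra.Homology.ShortComplex.ModuleCat
import Mathlib.LinearAlgebra.TensorProduct.RightExactness
import Mathlib.RingTheory.Nakayama
import Mathlib.LinearAlgebra.Charpoly.Basic
import Mathlib.RingTheory.Ideal.Maximal
import Mathlib.Algebra.Module.Projective
import Mathlib.LinearAlgebra.Basis.VectorSpace
import Mathlib.RingTheory.Finiteness.Cardinality
import Mathlib

/-!
# A finite submodule of a projective module which is residually injective is a direct summand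
-/

universe u

open TensorProduct

namespace Groth.Agent.FlatAssocX

variable {A : Type u} [CommRing A] {B Q : Type u} [AddCommGroup B] [Module A B] [Module.Finite A B]
  [AddCommGroup Q] [Module A Q] [Module.Projective A Q]

/-- Residual injectivity splits up to a scalar outside the maximal ideal. -/
theorem exists_retraction_of_residual (f : B →ₗ[A] Q) (m : Ideal A) [m.IsMaximal]
    (h : Function.Injective (f.lTensor (A ⧸ m))) :
    ∃ s : A, s ∉ m ∧ ∃ r : Q →ₗ[A] B, r ∘ₗ f = s • LinearMap.id := by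
  letI : Field (A ⧸ m) := Ideal.Quotient.field m
  let fk : (A ⧸ m) ⊗[A] B →ₗ[A ⧸ m] (A ⧸ m) ⊗[A] Q := f.baseChange (A ⧸ m)
  have hfk : LinearMap.ker fk = ⊥ := LinearMap.ker_eq_bot.2 h
  obtain ⟨ρ, hρ⟩ := fk.exists_leftInverse_of_injective hfk
  let μ : B →ₗ[A] (A ⧸ m) ⊗[A] B := TensorProduct.mk A (A ⧸ m) B 1
  have hμ : Function.Surjective μ := TensorProduct.mk_surjective A B (A ⧸ m) Ideal.Quotient.mk_surjective
  obtain ⟨r, hr⟩ := Module.projective_lifting_property μ
    ((ρ.restrictScalars A) ∘ₗ TensorProduct.mk A (A ⧸ m) Q 1) hμ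
  have hker : LinearMap.ker μ = m • (⊤ : Submodule A B) := LinearMap.ker_tensorProductMk B
  let g : Module.End A B := LinearMap.id - r ∘ₗ f
  have hg : LinearMap.range g ≤ m • (⊤ : Submodule A B) := by
    rintro _ ⟨b, rfl⟩
    rw [← hker, LinearMap.mem_ker, LinearMap.sub_apply, map_sub, LinearMap.id_apply, sub_eq_zero]
    have h1 := LinearMap.congr_fun hρ ((1 : A ⧸ m) ⊗ₜ b)
    exact ((LinearMap.congr_fun hr (f b)).trans h1).symm
  obtain ⟨p, hp, -, hcoeff, haeval⟩ :=
    LinearMap.exists_monic_and_natDegree_eq_and_coeff_mem_pow_and_aeval_eq_zero A g m hg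
  refine ⟨p.eval 1, fun hm => ?_, ?_⟩
  · have h1 : p.eval 1 - 1 ∈ m := by
      rw [Polynomial.eval_eq_sum_range, Finset.sum_range_succ, hp.coeff_natDegree, one_mul, one_pow,
        add_sub_cancel_right]
      refine Ideal.sum_mem _ fun k hk => ?_
      rw [one_pow, mul_one]
      exact Ideal.pow_le_self (by have := Finset.mem_range.1 hk; omega) (hcoeff k)
    exact (Ideal.ne_top_iff_one m).1 (Ideal.IsMaximal.ne_top inferInstance)
      (by simpa using m.sub_mem hm h1)
  · obtain ⟨q, hq⟩ := Polynomial.X_sub_C_dvd_sub_C_eval (a := (1 : A)) (p := p)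
    have h2 := congrArg (Polynomial.aeval g) hq
    rw [map_sub, map_mul, map_sub, haeval, Polynomial.aeval_X, Polynomial.aeval_C, Polynomial.aeval_C,
      map_one] at h2
    refine ⟨(Polynomial.aeval g q) ∘ₗ r, ?_⟩
    have h3 : (g - 1) * Polynomial.aeval g q = -algebraMap A (Module.End A B) (p.eval 1) := by
      rw [← h2, zero_sub]
    have h4 : Commute (g - 1) (Polynomial.aeval g q) := by
      refine Commute.sub_left ?_ (Commute.one_left _)
      conv_lhs => rw [← Polynomial.aeval_X (R := A) g]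
      exact (Commute.all _ _).map (Polynomial.aeval g)
    rw [h4.eq, show g - 1 = -(r ∘ₗ f) by simp [g, Module.End.one_eq_id], mul_neg, neg_inj] at h3
    rw [LinearMap.comp_assoc, ← Module.End.mul_eq_comp, h3, Module.algebraMap_end_eq_smul_id]

/-- If `B → Q` is residually injective everywhere, it splits. -/
theorem exists_retraction_of_forall_residual (f : B →ₗ[A] Q)
    (h : ∀ (m : Ideal A) [m.IsMaximal], Function.Injective (f.lTensor (A ⧸ m))) :
    ∃ r : Q →ₗ[A] B, r ∘ₗ f = LinearMap.id := by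
  let J : Ideal A :=
    { carrier := {s | ∃ r : Q →ₗ[A] B, r ∘ₗ f = s • LinearMap.id}
      add_mem' := fun {a b} ⟨r, hr⟩ ⟨r', hr'⟩ => ⟨r + r', by rw [LinearMap.add_comp, hr, hr', add_smul]⟩
      zero_mem' := ⟨0, by rw [LinearMap.zero_comp, zero_smul]⟩
      smul_mem' := fun c {a} ⟨r, hr⟩ => ⟨c • r, by rw [LinearMap.smul_comp, hr, smul_eq_mul, mul_smul]⟩ }
  have hJ : J = ⊤ := by
    by_contra hne
    obtain ⟨m, hm, hle⟩ := Ideal.exists_le_maximal J hne
    obtain ⟨s, hs, r, hr⟩ := exists_retraction_of_residual f m (h m)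
    exact hs (hle ⟨r, hr⟩)
  obtain ⟨r, hr⟩ := (J.eq_top_iff_one.1 hJ : (1 : A) ∈ J)
  exact ⟨r, hr.trans (one_smul _ _)⟩

end Groth.Agent.FlatAssocX
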