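import Groth.Agent.H23.Frame
import Groth.Agent.H23.PullPush
import Groth.Agent.AModX.Res

/-!
# Inverse images of frames of finite rank
-/

set_option autoImplicit false

universe u

open CategoryTheory CategoryTheory.Limits AlgebraicGeometry TopologicalSpace Opposite

namespace Groth.Agent.FlatAssocX.PullFrame

open Groth.Agent.H23.Frame Groth.Agent.H23.PullPush Groth.Agent.AModX

variable {X S : Scheme.{u}} {n : ℕ}

/-- The image of a section in the inverse image. -/
noncomputable def pullS (f : X ⟶ S) (M : S.Modules) {U : S.Opens} (x : Γ(M, U)) :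
    Γ((Scheme.Modules.pullback f).obj M, f ⁻¹ᵁ U) :=
  ((Scheme.Modules.pullbackPushforwardAdjunction f).unit.app M).app U x

theorem pullS_map (f : X ⟶ S) {M N : S.Modules} (φ : M ⟶ N) {U : S.Opens} (x : Γ(M, U)) :
    ((Scheme.Modules.pullback f).map φ).app (f ⁻¹ᵁ U) (pullS f M x) = pullS f N (φ.app U x) :=
  (ConcreteCategory.congr_hom (congrArg (fun t => Scheme.Modules.Hom.app t U)
    ((Scheme.Modules.pullbackPushforwardAdjunction f).unit.naturality φ)) x).symm

theorem pullS_res (f : X ⟶ S) (M : S.Modules) {U V : S.Opens} (h : V ≤ U) (x : Γ(M, U)) :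
    pullS f M (res M h x) = res _ (f.preimage_mono h) (pullS f M x) :=
  app_res ((Scheme.Modules.pullbackPushforwardAdjunction f).unit.app M) h x

theorem pullS_smul (f : X ⟶ S) (M : S.Modules) {U : S.Opens} (r : Γ(S, U)) (x : Γ(M, U)) :
    pullS f M (r • x) = f.app U r • pullS f M x :=
  Scheme.Modules.Hom.app_smul ((Scheme.Modules.pullbackPushforwardAdjunction f).unit.app M) r x

theorem pullS_add (f : X ⟶ S) (M : S.Modules) {U : S.Opens} (x y : Γ(M, U)) :
    pullS f M (x + y) = pullS f M x + pullS f M y :=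
  map_add _ x y

theorem pullS_sum (f : X ⟶ S) (M : S.Modules) {U : S.Opens} {ι : Type*} (t : Finset ι) (x : ι → Γ(M, U)) :
    pullS f M (∑ i ∈ t, x i) = ∑ i ∈ t, pullS f M (x i) :=
  map_sum (((Scheme.Modules.pullbackPushforwardAdjunction f).unit.app M).app U).hom x t

theorem comb_eq (M : X.Modules) {U : X.Opens} (s : Fin n → Γ(M, U)) (W : X.Opens) (h : W ≤ U)
    (c : Fin n → Γ(X, W)) : comb M s W h c = ∑ i, c i • res M h (s i) := rfl

theorem isFrame_map_iso {M N : X.Modules} (e : M ≅ N) {U : X.Opens} {s : Fin n → Γ(M, U)}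
    (hs : IsFrame M s) : IsFrame N (fun i => e.hom.app U (s i)) := fun W h => by
  have hb : Function.Bijective (e.hom.app W) := ConcreteCategory.bijective_of_isIso (e.hom.app W)
  have key : comb N (fun i => e.hom.app U (s i)) W h = (fun x => e.hom.app W x) ∘ comb M s W h := by
    funext c
    simp only [Function.comp, comb_eq, map_sum]
    refine Finset.sum_congr rfl fun i _ => ?_
    rw [Scheme.Modules.Hom.app_smul, app_res]
  rw [key]
  exact hb.comp (hs W h)

theorem isFrame_of_restrict {M : X.Modules} {U : X.Opens}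
    (t : Fin n → Γ(M.restrict U.ι, (⊤ : (U : Scheme.{u}).Opens))) (ht : IsFrame (M.restrict U.ι) t) :
    IsFrame M (fun i => res M (U.ι_image_top).ge (show Γ(M, U.ι ''ᵁ ⊤) from t i)) := fun W h => by
  obtain ⟨W', rfl⟩ : ∃ W' : (U : Scheme.{u}).Opens, U.ι ''ᵁ W' = W := ⟨U.ι ⁻¹ᵁ W, by
    rw [Scheme.Hom.image_preimage_eq_opensRange_inf, Scheme.Opens.opensRange_ι]; simpa using h⟩
  have key : comb M (fun i => res M (U.ι_image_top).ge (show Γ(M, U.ι ''ᵁ ⊤) from t i)) (U.ι ''ᵁ W') h =
      comb (M.restrict U.ι) t W' le_top := by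
    funext c
    simp only [comb_eq]
    refine Finset.sum_congr rfl fun i _ => ?_
    refine Eq.trans ?_ (restrict_smul U W' (c i) _).symm
    refine congrArg (fun m : Γ(M, U.ι ''ᵁ W') => (show Γ(X, U.ι ''ᵁ W') from c i) • m) ?_
    exact res_res _ _ _
  rw [key]
  exact ht W' le_top

/-- The inverse image of the standard frame of a free module. -/
theorem isFrame_pullS_free (g : X ⟶ S) (n : ℕ) :
    IsFrame ((Scheme.Modules.pullback g).obj (FlatMod.freeMod S n))
      (U := g ⁻¹ᵁ (⊤ : S.Opens))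
      (fun i => pullS g (FlatMod.freeMod S n) ((incl S n i).app ⊤ (one ⊤))) := by
  let P := (Scheme.Modules.pullback g).obj (FlatMod.freeMod S n)
  let e : (Scheme.Modules.pullback g).obj (Coh.structureModule S) ⟶ Coh.structureModule X :=
    SheafOfModules.pullbackObjUnitToUnit g.toRingCatSheafHom
  haveI : IsIso e := inferInstanceAs (IsIso (SheafOfModules.pullbackObjUnitToUnit g.toRingCatSheafHom))
  have he : e.app ⊤ (pullS g (Coh.structureModule S) (one ⊤)) = one ⊤ := by
    have h : (Scheme.Modules.pullbackPushforwardAdjunction g).unit.app (Coh.structureModule S) ≫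
        (Scheme.Modules.pushforward g).map e = SheafOfModules.unitToPushforwardObjUnit g.toRingCatSheafHom :=
      (Adjunction.homEquiv_unit (Scheme.Modules.pullbackPushforwardAdjunction g) _ _ e).symm.trans
        (SheafOfModules.pullbackPushforwardAdjunction_homEquiv_pullbackObjUnitToUnit g.toRingCatSheafHom)
    exact (ConcreteCategory.congr_hom (congrArg (fun t => Scheme.Modules.Hom.app t ⊤) h) (one ⊤)).trans
      (map_one (g.app ⊤).hom)
  let φ : FlatMod.freeMod X n ⟶ P :=
    Sigma.desc fun i => inv e ≫ (Scheme.Modules.pullback g).map (incl S n i)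
  let ψ : P ⟶ FlatMod.freeMod X n :=
    ∑ i, (Scheme.Modules.pullback g).map (proj S n i) ≫ e ≫ incl X n i
  have hφ : ∀ i, incl X n i ≫ φ = inv e ≫ (Scheme.Modules.pullback g).map (incl S n i) := fun i =>
    Sigma.ι_desc _ _
  have h1 : ψ ≫ φ = 𝟙 P := by
    simp only [ψ, Preadditive.sum_comp, Category.assoc, hφ, IsIso.hom_inv_id_assoc,
      ← Functor.map_comp]
    exact ((Scheme.Modules.pullback g).map_sum _ _).symm.trans
      ((congrArg (Scheme.Modules.pullback g).map (total S n)).trans ((Scheme.Modules.pullback g).map_id _))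
  have h2 : φ ≫ ψ = 𝟙 _ := by
    refine Sigma.hom_ext _ _ fun j => ?_
    have hjj : ∀ i, (Scheme.Modules.pullback g).map (incl S n j) ≫ (Scheme.Modules.pullback g).map (proj S n i) ≫
        e ≫ incl X n i = if j = i then e ≫ incl X n i else 0 := by
      intro i
      rw [← Functor.map_comp_assoc, incl_proj]
      split
      · rw [CategoryTheory.Functor.map_id, Category.id_comp]
      · rw [Functor.map_zero, Limits.zero_comp]
    change incl X n j ≫ φ ≫ ψ = incl X n j ≫ 𝟙 _
    rw [← Category.assoc, hφ, Category.comp_id]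
    simp only [ψ, Category.assoc, Preadditive.comp_sum, hjj]
    rw [Finset.sum_eq_single j (fun i _ hi => by rw [if_neg (fun h => hi h.symm), Limits.comp_zero])
      (fun h => absurd (Finset.mem_univ j) h), if_pos rfl, IsIso.inv_hom_id_assoc]
  have hf := isFrame_map_iso (⟨φ, ψ, h2, h1⟩ : FlatMod.freeMod X n ≅ P) (incl_isFrame (X := X) (n := n))
  have heq : (fun i => pullS g (FlatMod.freeMod S n) ((incl S n i).app ⊤ (one ⊤))) =
      fun i => φ.app ⊤ ((incl X n i).app ⊤ (one ⊤)) := by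
    funext i
    show _ = (incl X n i ≫ φ).app ⊤ (one ⊤)
    rw [hφ, ← pullS_map, ← he]
    show ((Scheme.Modules.pullback g).map (incl S n i)).app ⊤ _ =
      ((Scheme.Modules.pullback g).map (incl S n i)).app ⊤ ((inv e).app ⊤ (e.app ⊤ _))
    refine congrArg _ ?_
    show _ = (e ≫ inv e).app ⊤ _
    rw [IsIso.hom_inv_id]
    rfl
  rw [heq]
  exact hf

theorem restrictFunctor_map_app (j : X ⟶ S) [IsOpenImmersion j] {M N : S.Modules} (φ : M ⟶ N) (W : X.Opens) :
    ((Scheme.Modules.restrictFunctor j).map φ).app W = φ.app (j ''ᵁ W) := rfl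

theorem pushRestrict_app (f : X ⟶ S) (U : S.Opens) (N : X.Modules) (W : (U : Scheme.{u}).Opens)
    (h : (f ⁻¹ᵁ U).ι ''ᵁ ((f ∣_ U) ⁻¹ᵁ W) ≤ f ⁻¹ᵁ (U.ι ''ᵁ W)) (y : Γ(N, f ⁻¹ᵁ (U.ι ''ᵁ W))) :
    (show Γ(N, (f ⁻¹ᵁ U).ι ''ᵁ ((f ∣_ U) ⁻¹ᵁ W)) from ((pushRestrict f U).app N).app W y) =
      res N h y := by
  simp only [pushRestrict, pushSquare, CategoryTheory.Functor.map_comp, Scheme.Modules.Hom.comp_app,
    Iso.trans_inv, Iso.symm_inv, NatTrans.comp_app, restrictFunctor_map_app,
    Scheme.Modules.pushforward_map_app, Scheme.Modules.restrictAdjunction_unit_app_app,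
    Scheme.Modules.restrictAdjunction_counit_app_app, Scheme.Modules.pushforwardComp_inv_app_app,
    Scheme.Modules.pushforwardComp_hom_app_app, Scheme.Modules.pushforwardCongr_inv_app_app,
    Category.id_comp, Category.comp_id, Category.assoc]
  show N.presheaf.map _ (N.presheaf.map _ (N.presheaf.map _ y)) = N.presheaf.map _ y
  rw [← ConcreteCategory.comp_apply, ← ConcreteCategory.comp_apply, ← N.presheaf.map_comp, ← N.presheaf.map_comp]
  rfl

/-- Locally free modules of finite rank have frames whose inverse images along any morphism are frames. -/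
theorem exists_frame_pullS {M : S.Modules} {U : S.Opens}
    (e : M.restrict U.ι ≅ FlatMod.freeMod (U : Scheme.{u}) n) :
    ∃ s : Fin n → Γ(M, U), IsFrame M s ∧ ∀ {X : Scheme.{u}} (f : X ⟶ S),
      IsFrame ((Scheme.Modules.pullback f).obj M) (fun i => pullS f M (s i)) := by
  let t : Fin n → Γ(M.restrict U.ι, (⊤ : (U : Scheme.{u}).Opens)) := fun i =>
    e.inv.app ⊤ ((incl (U : Scheme.{u}) n i).app ⊤ (one ⊤))
  let s : Fin n → Γ(M, U) := fun i => res M (U.ι_image_top).ge (show Γ(M, U.ι ''ᵁ ⊤) from t i)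
  refine ⟨s, isFrame_of_restrict t (isFrame_map_iso e.symm incl_isFrame), fun {X} f => ?_⟩
  let g := f ∣_ U
  let N := (Scheme.Modules.pullback f).obj M
  let c := (Scheme.Modules.pullback g).mapIso e.symm ≪≫ (pullRestrictIso f U).app M
  have hf := isFrame_of_restrict (M := N) _ (isFrame_map_iso c (isFrame_pullS_free g n))
  refine (congrArg (IsFrame N) (funext fun i => ?_)).mp hf
  have h : (f ⁻¹ᵁ U).ι ''ᵁ (g ⁻¹ᵁ ⊤) ≤ f ⁻¹ᵁ (U.ι ''ᵁ ⊤) :=
    le_of_eq ((f ⁻¹ᵁ U).ι_image_top.trans (congrArg (f ⁻¹ᵁ ·) U.ι_image_top.symm))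
  have h1 : c.hom.app (g ⁻¹ᵁ ⊤) (pullS g _ ((incl (U : Scheme.{u}) n i).app ⊤ (one ⊤))) =
      (show Γ((Scheme.Modules.pullback f).obj M |>.restrict (f ⁻¹ᵁ U).ι, g ⁻¹ᵁ ⊤) from
        res N h (pullS f M (show Γ(M, U.ι ''ᵁ ⊤) from t i))) := by
    show ((pullRestrictIso f U).hom.app M).app (g ⁻¹ᵁ ⊤)
      (((Scheme.Modules.pullback g).map e.inv).app (g ⁻¹ᵁ ⊤) (pullS g _ _)) = _
    rw [pullS_map]
    exact (ConcreteCategory.congr_hom (congrArg (fun q => Scheme.Modules.Hom.app q ⊤)
      (restrict_unit_comp f U M)) (t i)).symm.trans (pushRestrict_app f U N ⊤ h _)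
  refine (congrArg (res N (f ⁻¹ᵁ U).ι_image_top.ge) h1).trans ?_
  show res N _ (res N h (pullS f M (show Γ(M, U.ι ''ᵁ ⊤) from t i))) = pullS f M (s i)
  rw [res_res]
  exact (pullS_res f M U.ι_image_top.ge _).symm

theorem pullS_pullbackCongr {f g : X ⟶ S} (hfg : f = g) (M : S.Modules) {U : S.Opens}
    (h : g ⁻¹ᵁ U ≤ f ⁻¹ᵁ U) (x : Γ(M, U)) :
    ((Scheme.Modules.pullbackCongr hfg).hom.app M).app (g ⁻¹ᵁ U) (res _ h (pullS f M x)) = pullS g M x := by
  subst hfg
  simp [Scheme.Modules.pullbackCongr]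

end Groth.Agent.FlatAssocX.PullFrame
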