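import Groth.Agent.S6353
import Groth.Agent.QCoh.Stalk
import Groth.Agent.QCoh.Support
import Mathlib

/-!
# Flat closed subschemes and pure ideals
-/

set_option autoImplicit false
set_option backward.isDefEq.respectTransparency false

universe u

open CategoryTheory AlgebraicGeometry TopologicalSpace

namespace Groth.Agent.FlatAssocX

theorem pure_map {R S : Type*} [CommRing R] [CommRing S] (φ : R →+* S) (I : Ideal R) (h : I.Pure) :
    (I.map φ).Pure := by
  algebraize [φ]
  exact Module.Flat.of_linearEquiv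
    (Algebra.TensorProduct.quotIdealMapEquivTensorQuot S I).toLinearEquiv

variable {X : Scheme.{u}}

theorem mem_support_iff_le {I : X.IdealSheafData} {x : X} {U : X.affineOpens} (hx : x ∈ U.1) :
    x ∈ I.support ↔ I.ideal U ≤ (U.2.primeIdealOf ⟨x, hx⟩).asIdeal := by
  rw [Scheme.IdealSheafData.mem_support_iff_of_mem hx, Scheme.mem_zeroLocus_iff]
  refine ⟨fun h f hf => ?_, fun h f hf => ?_⟩
  · exact not_not.1 fun h' => h f hf ((QCoh.mem_basicOpen_iff_notMem U.2 hx f).2 h')
  · exact fun h' => (QCoh.mem_basicOpen_iff_notMem U.2 hx f).1 h' (h hf)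

theorem flat_subschemeι_iff (I : X.IdealSheafData) :
    Flat I.subschemeι ↔ ∀ U, (I.ideal U).Pure := by
  have hmk : ∀ U : X.affineOpens, (I.subschemeι.app U).hom.Flat ↔ (I.ideal U).Pure := by
    intro U
    rw [I.subschemeι_app U]
    change ((I.subschemeObjIso U).commRingCatIsoToRingEquiv.symm.toRingHom.comp
      (Ideal.Quotient.mk (I.ideal U))).Flat ↔ _
    refine Iff.trans ?_ RingHom.flat_algebraMap_iff
    constructor
    · intro h
      have := RingHom.Flat.respectsIso.1 _ (I.subschemeObjIso U).commRingCatIsoToRingEquiv h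
      have e2 : (I.subschemeObjIso U).commRingCatIsoToRingEquiv.toRingHom.comp
          ((I.subschemeObjIso U).commRingCatIsoToRingEquiv.symm.toRingHom.comp
            (Ideal.Quotient.mk (I.ideal U))) = algebraMap Γ(X, U.1) (Γ(X, U.1) ⧸ I.ideal U) :=
        RingHom.ext fun a => (I.subschemeObjIso U).commRingCatIsoToRingEquiv.apply_symm_apply _
      simp only [e2] at this
      exact this
    · exact fun h => RingHom.Flat.respectsIso.1 _ _ h
  constructor
  · intro h U
    refine (hmk U).1 ?_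
    rw [Scheme.Hom.app_eq_appLE]
    exact Scheme.Hom.flat_appLE _ U.2 (U.2.preimage _) _
  · intro h
    refine ⟨fun {U} hU {V} hV e => ?_⟩
    have e1 : I.subschemeι.appLE U V e = I.subschemeι.app U ≫
        I.subscheme.presheaf.map (homOfLE e).op := rfl
    rw [e1, CommRingCat.hom_comp]
    refine RingHom.Flat.stableUnderComposition _ _ ((hmk ⟨U, hU⟩).2 (h _)) ?_
    have := Scheme.Hom.flat_appLE (𝟙 I.subscheme) (hU.preimage I.subschemeι) hV e
    simpa [Scheme.Hom.appLE] using this

theorem stableUnderGeneralization_support {I : X.IdealSheafData} (h : ∀ U, (I.ideal U).Pure) :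
    StableUnderGeneralization (I.support : Set X) := by
  intro x y hyx hx
  obtain ⟨U, hU, hxU, -⟩ := exists_isAffineOpen_mem_and_subset (x := x) (U := ⊤) trivial
  have hyU : y ∈ U := hyx.mem_open U.2 hxU
  rw [SetLike.mem_coe, mem_support_iff_le (U := ⟨U, hU⟩) hxU] at hx
  rw [SetLike.mem_coe, mem_support_iff_le (U := ⟨U, hU⟩) hyU]
  refine (Groth.Agent.S6353.result _).1 _ (h ⟨U, hU⟩) ?_ hx
  refine hU.fromSpec.isOpenEmbedding.isInducing.specializes_iff.1 ?_
  rwa [hU.fromSpec_primeIdealOf, hU.fromSpec_primeIdealOf]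

theorem zeroLocus_ideal_eq (I : X.IdealSheafData) (U : X.affineOpens) :
    PrimeSpectrum.zeroLocus (I.ideal U : Set Γ(X, U.1)) = U.2.fromSpec ⁻¹' (I.support : Set X) := by
  ext p
  obtain ⟨y, hy, rfl⟩ := QCoh.exists_point U.2 p
  rw [Set.mem_preimage, U.2.fromSpec_primeIdealOf, SetLike.mem_coe, mem_support_iff_le hy]
  rfl

theorem eq_of_support_eq {I J : X.IdealSheafData} (hI : ∀ U, (I.ideal U).Pure)
    (hJ : ∀ U, (J.ideal U).Pure) (h : I.support = J.support) : I = J := by
  ext1; funext U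
  have := hI U; have := hJ U
  rw [← Ideal.zeroLocus_inj_of_pure, zeroLocus_ideal_eq, zeroLocus_ideal_eq, h]

theorem exists_pure_of_stable (Z : Closeds X) (hZ : StableUnderGeneralization (Z : Set X)) :
    ∃ I : X.IdealSheafData, (∀ U, (I.ideal U).Pure) ∧ I.support = Z := by
  have key : ∀ U : X.affineOpens, ∃ J : Ideal Γ(X, U.1), J.Pure ∧
      PrimeSpectrum.zeroLocus (J : Set Γ(X, U.1)) = U.2.fromSpec ⁻¹' (Z : Set X) := by
    intro U
    refine (Groth.Agent.S6353.result _).2 _ (Z.isClosed.preimage U.2.fromSpec.continuous) ?_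
    intro p q hpq hp
    exact hZ (hpq.map U.2.fromSpec.continuous) hp
  choose J hJ hJZ using key
  have hmap : ∀ (U : X.affineOpens) (f : Γ(X, U.1)),
      (J U).map (X.presheaf.map (homOfLE <| X.basicOpen_le f).op).hom =
        J (X.affineBasicOpen f) := by
    intro U f
    have : ((J U).map (X.presheaf.map (homOfLE <| X.basicOpen_le f).op).hom).Pure :=
      pure_map _ _ (hJ U)
    have : (J (X.affineBasicOpen f)).Pure := hJ (X.affineBasicOpen f)
    refine (@Ideal.zeroLocus_inj_of_pure _ _ _ _ ‹_› ‹_›).1 (Eq.trans ?_ (hJZ (X.affineBasicOpen f)).symm)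
    rw [← PrimeSpectrum.zeroLocus_span, Ideal.span_eq]
    ext p
    have hfr := U.2.map_fromSpec (X.affineBasicOpen f).2 (homOfLE <| X.basicOpen_le f).op
    rw [Set.mem_preimage, PrimeSpectrum.mem_zeroLocus, SetLike.coe_subset_coe, Ideal.map_le_iff_le_comap, ← hfr]
    change p.comap _ ∈ PrimeSpectrum.zeroLocus (J U : Set Γ(X, U.1)) ↔ _
    rw [hJZ U]
    rfl
  let I : X.IdealSheafData := { ideal := J, map_ideal_basicOpen := hmap }
  refine ⟨I, hJ, ?_⟩
  ext x
  obtain ⟨U, hU, hxU, -⟩ := exists_isAffineOpen_mem_and_subset (x := x) (U := ⊤) trivial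
  rw [SetLike.mem_coe, mem_support_iff_le (U := ⟨U, hU⟩) hxU]
  have := Set.ext_iff.1 (hJZ ⟨U, hU⟩) (hU.primeIdealOf ⟨x, hxU⟩)
  rw [Set.mem_preimage, hU.fromSpec_primeIdealOf] at this
  exact this

theorem factors_of_range_subset {I : X.IdealSheafData} (hI : ∀ U, (I.ideal U).Pure) {Y : Scheme.{u}}
    (g : Y ⟶ X) (hg : Set.range g.base ⊆ (I.support : Set X)) :
    ∃ g' : Y ⟶ I.subscheme, g' ≫ I.subschemeι = g := by
  have H : I.subschemeι.ker ≤ g.ker := by
    rw [Scheme.IdealSheafData.ker_subschemeι]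
    refine Scheme.IdealSheafData.le_ofIdeals_iff.2 fun U a ha => ?_
    have := hI U
    obtain ⟨b, hb, hab⟩ := Ideal.exists_eq_mul_of_pure ha
    rw [RingHom.mem_ker]
    have hu : IsUnit (1 - g.app U.1 b) := by
      refine Y.toRingedSpace.isUnit_of_isUnit_germ _ _ fun y hy => ?_
      rw [map_sub, map_one]
      refine IsLocalRing.isUnit_one_sub_self_of_mem_nonunits _ fun hu => ?_
      have h1 : y ∈ Y.basicOpen (g.app U.1 b) := (Y.mem_basicOpen _ y hy).2 hu
      rw [← Scheme.preimage_basicOpen] at h1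
      exact (QCoh.mem_basicOpen_iff_notMem U.2 (x := g.base y) hy b).1 h1
        ((mem_support_iff_le (U := U) hy).1 (hg ⟨y, rfl⟩) hb)
    refine (hu.mul_left_eq_zero).1 ?_
    rw [mul_sub, mul_one, ← map_mul, ← hab, sub_self]
  exact ⟨IsClosedImmersion.lift I.subschemeι g H, IsClosedImmersion.lift_fac _ _ H⟩

end Groth.Agent.FlatAssocX
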