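import Groth.Agent.FlatAssocX.SpacePushoutBC
import Groth.Agent.FlatAssocX.PinchBC

/-!
# Functions on a flat pinching
-/

set_option autoImplicit false
set_option backward.isDefEq.respectTransparency false
set_option linter.style.haveILetI false

universe u

open CategoryTheory CategoryTheory.Limits AlgebraicGeometry TopologicalSpace Opposite Groth.Agent.AModX

namespace Groth.Agent.FlatAssocX

theorem app_injective_of_flat_surjective {Z T : Scheme.{u}} (ξ : Z ⟶ T) [Flat ξ] [Surjective ξ] [IsAffineHom ξ]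
    (O : T.Opens) : Function.Injective (ξ.app O) := by
  intro s s' hs
  refine TopCat.Sheaf.eq_of_locally_eq' T.sheaf (fun W : {W : T.affineOpens // W.1 ≤ O} => W.1.1) O
    (fun W => homOfLE W.2) (fun p hp => ?_) _ _ fun W => ?_
  · obtain ⟨U, hU, hpU, hUO⟩ := exists_isAffineOpen_mem_and_subset (x := p) (U := O) hp
    exact Opens.mem_iSup.mpr ⟨⟨⟨U, hU⟩, hUO⟩, hpU⟩
  · show resR W.2 s = resR W.2 s'
    refine (faithfullyFlat_appLE ξ W.1.2 (W.1.2.preimage ξ) rfl).injective ?_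
    rw [appLE_eq_app]
    exact (app_resR ξ W.2 s).trans ((congrArg _ hs).trans (app_resR ξ W.2 s').symm)

theorem bijective_app {X Z Z' X' T : Scheme.{u}} {ι : Z ⟶ X} {q : Z ⟶ Z'} {π : X ⟶ X'} {ι' : Z' ⟶ X'}
    (hpo : IsPushout (toSp.map ι) (toSp.map q) (toSp.map π) (toSp.map ι'))
    [Flat q] [Surjective q] [IsAffineHom q] (f : X' ⟶ T) (fX : X ⟶ T) (fZ : Z' ⟶ T) (hπ : π ≫ f = fX)
    (hι' : ι' ≫ f = fZ) (hw : ι ≫ fX = q ≫ fZ) (U : T.Opens) (h : Function.Bijective (fX.app U)) :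
    Function.Bijective (f.app U) := by
  subst hπ hι'
  refine ⟨fun s s' hs => h.1 ?_, fun b => ?_⟩
  · show π.app _ (f.app U s) = π.app _ (f.app U s')
    rw [hs]
  · obtain ⟨r, hr⟩ := h.2 (π.app (f ⁻¹ᵁ U) b)
    replace hr : π.app (f ⁻¹ᵁ U) (f.app U r) = π.app (f ⁻¹ᵁ U) b := hr
    refine ⟨r, sections_injective hpo _ hr ?_⟩
    have hinj : Function.Injective (q.app (ι' ⁻¹ᵁ f ⁻¹ᵁ U) ≫
        Z.presheaf.map (eqToHom (preimage_eq hpo (f ⁻¹ᵁ U)).symm).op) := fun x y hxy =>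
      app_injective_of_flat_surjective q _ ((ConcreteCategory.bijective_of_isIso
        (Z.presheaf.map (eqToHom (preimage_eq hpo (f ⁻¹ᵁ U)).symm).op)).1 hxy)
    apply hinj
    have h1 := ConcreteCategory.congr_hom (isPullback_app hpo (f ⁻¹ᵁ U)).w (f.app U r)
    have h2 := ConcreteCategory.congr_hom (isPullback_app hpo (f ⁻¹ᵁ U)).w b
    exact h1.symm.trans ((congrArg (ι.app _) hr).trans h2)

end Groth.Agent.FlatAssocX
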