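import Groth.Agent.FlatAssocX.SpaceCriterion
import Groth.Agent.FlatAssocX.SchemePushout
import Groth.Agent.RingPO.BaseChange
import Groth.Agent.RingPO.Cat
import Groth.Agent.RingPO.Sep
import Groth.Agent.AModX.Res

/-!
# Push-outs along closed immersions: schemes versus ringed spaces
-/

set_option autoImplicit false
set_option backward.isDefEq.respectTransparency false
set_option linter.style.haveILetI false

universe u

open CategoryTheory CategoryTheory.Limits AlgebraicGeometry TopologicalSpace Opposite RingPO Groth.Agent.AModX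

namespace Groth.Agent.FlatAssocX

/-- The functor to ringed spaces. -/
abbrev toSp : Scheme.{u} ⥤ SheafedSpace.{_, _, u} CommRingCat.{u} :=
  Scheme.forgetToLocallyRingedSpace ⋙ LocallyRingedSpace.forgetToSheafedSpace

variable {X Z Z' X' : Scheme.{u}} {ι : Z ⟶ X} {q : Z ⟶ Z'} {π : X ⟶ X'} {ι' : Z' ⟶ X'}

theorem appLE_eq_app {A B : Scheme.{u}} (f : A ⟶ B) (U : B.Opens) : f.appLE U (f ⁻¹ᵁ U) le_rfl = f.app U :=
  f.app_eq_appLE.symm

theorem app_resR {A B : Scheme.{u}} (f : A ⟶ B) {U V : B.Opens} (hUV : U ≤ V) (s : Γ(B, V)) :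
    f.app U (resR hUV s) = resR (f.preimage_mono hUV) (f.app V s) :=
  ConcreteCategory.congr_hom (f.naturality (homOfLE hUV).op) s

theorem preimage_le_of_eq {A B C D : Scheme.{u}} {f : A ⟶ B} {g : B ⟶ D} {f' : A ⟶ C} {g' : C ⟶ D}
    (w : f ≫ g = f' ≫ g') (V : D.Opens) : f ⁻¹ᵁ g ⁻¹ᵁ V ≤ f' ⁻¹ᵁ g' ⁻¹ᵁ V := by
  rw [← Scheme.Hom.comp_preimage, w, Scheme.Hom.comp_preimage]

/-- A push-out of ringed spaces along a closed immersion with affine legs is a push-out of schemes. -/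
theorem isPushout_of_space [IsClosedImmersion ι] [IsAffineHom π] [IsAffineHom ι']
    (hpo : IsPushout (toSp.map ι) (toSp.map q) (toSp.map π) (toSp.map ι')) (hw : ι ≫ π = q ≫ ι') :
    IsPushout ι q π ι' := by
  have hfp : ∀ U : X'.affineOpens, IsFibreProd (ι.app (π ⁻¹ᵁ U.1)).hom
      (q.app (ι' ⁻¹ᵁ U.1) ≫ Z.presheaf.map (eqToHom (preimage_eq hpo U.1).symm).op).hom
      (π.app U.1).hom (ι'.app U.1).hom := fun U =>
    RingPO.isFibreProd_of_isPullback (ι.app_surjective (π ⁻¹ᵁ U.1) (U.2.preimage π))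
      (by simpa using isPullback_app hpo U.1)
  refine isPushout_of_models hw (κ := X'.affineOpens) (fun U =>
    { A := _, A' := _, B := _, C := _, p := _, q := _, α := _, β := _, h := hfp U, φ := U.2.fromSpec,
      u := (U.2.preimage π).fromSpec, v := (U.2.preimage ι').fromSpec,
      w := ((U.2.preimage π).preimage ι).fromSpec, hw₁ := ?_, hw₂ := ?_, hu := ?_, hv := ?_ }) ?_
  · rw [CommRingCat.ofHom_hom, ← appLE_eq_app]
    exact ((U.2.preimage π).SpecMap_appLE_fromSpec ι ((U.2.preimage π).preimage ι) le_rfl).symm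
  · rw [CommRingCat.ofHom_hom]
    rw [show q.app (ι' ⁻¹ᵁ U.1) ≫ Z.presheaf.map (eqToHom (preimage_eq hpo U.1).symm).op =
      q.appLE (ι' ⁻¹ᵁ U.1) (ι ⁻¹ᵁ π ⁻¹ᵁ U.1) (preimage_eq hpo U.1).ge from rfl]
    exact ((U.2.preimage ι').SpecMap_appLE_fromSpec q ((U.2.preimage π).preimage ι)
      (preimage_eq hpo U.1).ge).symm
  · rw [CommRingCat.ofHom_hom, ← appLE_eq_app]
    exact RingPO.isPullback_fromSpec π U.2
  · rw [CommRingCat.ofHom_hom, ← appLE_eq_app]
    exact RingPO.isPullback_fromSpec ι' U.2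
  · intro x
    obtain ⟨U, hU, hxU, -⟩ := exists_isAffineOpen_mem_and_subset (x := x) (U := (⊤ : X'.Opens)) (by simp)
    exact ⟨⟨U, hU⟩, hU.range_fromSpec.ge hxU⟩

section

variable [IsClosedImmersion ι] [IsAffineHom π] [IsAffineHom ι'] (h : IsPushout ι q π ι')

include h

theorem charts_of_pushout (y : Z') : ∃ c : Chart ι q, y ∈ c.V := RingPO.chart_of_affineHom h.w y

theorem preimage_range (x : X) (y : Z') (hxy : π x = ι' y) : ∃ z, ι z = x ∧ q z = y := by
  have hpb := RingPO.isPullback_of_isPushout h (charts_of_pushout h)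
  obtain ⟨w, hw₁, hw₂⟩ := Scheme.Pullback.exists_preimage_pullback (f := π) (g := ι') x y hxy
  refine ⟨hpb.isoPullback.inv w, ?_, ?_⟩
  · rw [← Scheme.Hom.comp_apply, hpb.isoPullback_inv_fst]; exact hw₁
  · rw [← Scheme.Hom.comp_apply, hpb.isoPullback_inv_snd]; exact hw₂

theorem injOn_compl (x x' : X) (hxx : π x = π x') : x = x' ∨ π x ∈ Set.range ι' := by
  obtain ⟨U, hU, hxU, -⟩ := exists_isAffineOpen_mem_and_subset (x := π x) (U := (⊤ : X'.Opens)) (by simp)
  have hF := isFibreProd_of_affineOpen h (charts_of_pushout h) hU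
  obtain ⟨a, ha⟩ := (hU.preimage π).range_fromSpec.ge (show x ∈ π ⁻¹ᵁ U from hxU)
  obtain ⟨a', ha'⟩ := (hU.preimage π).range_fromSpec.ge (show x' ∈ π ⁻¹ᵁ U by show π x' ∈ U; rw [← hxx]; exact hxU)
  have hsp : ∀ w, hU.fromSpec (PrimeSpectrum.comap (π.appLE U (π ⁻¹ᵁ U) le_rfl).hom w) =
      π ((hU.preimage π).fromSpec w) := fun w =>
    congr($(hU.SpecMap_appLE_fromSpec π (hU.preimage π) le_rfl) w)
  rcases hF.fib_or (a := a) (a' := a') (hU.fromSpec.isOpenEmbedding.injective (by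
    rw [hsp, hsp, ha, ha', hxx])) with rfl | ⟨z, z', hz, -, -⟩
  · exact Or.inl (ha.symm.trans ha')
  · have hc := ((hU.preimage π).SpecMap_appLE_fromSpec ι ((hU.preimage π).preimage ι) le_rfl)
    have hxz : x = ι (((hU.preimage π).preimage ι).fromSpec z) := by
      rw [← ha, ← hz]
      exact congr($hc z)
    refine Or.inr ⟨q (((hU.preimage π).preimage ι).fromSpec z), ?_⟩
    rw [hxz]
    exact congr($(h.w.symm) _)

theorem isOpen_of_preimages (W : Set X') (h₁ : IsOpen (π ⁻¹' W)) (h₂ : IsOpen (ι' ⁻¹' W)) : IsOpen W := by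
  refine isOpen_iff_forall_mem_open.2 fun x hx => ?_
  obtain ⟨U, hU, hxU, -⟩ := exists_isAffineOpen_mem_and_subset (x := x) (U := (⊤ : X'.Opens)) (by simp)
  have hF := isFibreProd_of_affineOpen h (charts_of_pushout h) hU
  obtain ⟨P, rfl⟩ := hU.range_fromSpec.ge hxU
  set c := chartOver h hU
  have hsa : ∀ w, hU.fromSpec (PrimeSpectrum.comap (π.appLE U (π ⁻¹ᵁ U) le_rfl).hom w) =
      π ((hU.preimage π).fromSpec w) := fun w =>
    congr($(hU.SpecMap_appLE_fromSpec π (hU.preimage π) le_rfl) w)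
  have hsb : ∀ w, hU.fromSpec (PrimeSpectrum.comap (ι'.appLE U (ι' ⁻¹ᵁ U) le_rfl).hom w) =
      ι' ((hU.preimage ι').fromSpec w) := fun w =>
    congr($(hU.SpecMap_appLE_fromSpec ι' (hU.preimage ι') le_rfl) w)
  have hp : ∀ z, (hU.preimage π).fromSpec (PrimeSpectrum.comap c.p z) =
      ι (((hU.preimage π).preimage ι).fromSpec z) := fun z =>
    congr($((hU.preimage π).SpecMap_appLE_fromSpec ι ((hU.preimage π).preimage ι) le_rfl) z)
  have hq : ∀ z, (hU.preimage ι').fromSpec (PrimeSpectrum.comap c.q z) =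
      q (((hU.preimage π).preimage ι).fromSpec z) := fun z =>
    congr($((hU.preimage ι').SpecMap_appLE_fromSpec q ((hU.preimage π).preimage ι) c.eq.le) z)
  obtain ⟨e, hPe, heA, heB⟩ := hF.exists_basic
    (U' := (hU.preimage π).fromSpec ⁻¹' (π ⁻¹' W)) (V' := (hU.preimage ι').fromSpec ⁻¹' (ι' ⁻¹' W))
    (h₁.preimage (hU.preimage π).fromSpec.continuous) (h₂.preimage (hU.preimage ι').fromSpec.continuous)
    (fun z => by
      show π ((hU.preimage π).fromSpec (PrimeSpectrum.comap c.p z)) ∈ W ↔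
        ι' ((hU.preimage ι').fromSpec (PrimeSpectrum.comap c.q z)) ∈ W
      rw [hp, hq, ← Scheme.Hom.comp_apply, ← Scheme.Hom.comp_apply, h.w]; rfl)
    (P := P) (fun a ha => by
      show π ((hU.preimage π).fromSpec a) ∈ W
      rw [← hsa, ha]; exact hx)
    (fun b hb => by
      show ι' ((hU.preimage ι').fromSpec b) ∈ W
      rw [← hsb, hb]; exact hx)
  refine ⟨hU.fromSpec '' (PrimeSpectrum.basicOpen e : Set (PrimeSpectrum Γ(X', U))), ?_,
    hU.fromSpec.isOpenEmbedding.isOpenMap _ (PrimeSpectrum.basicOpen e).isOpen, ⟨P, hPe, rfl⟩⟩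
  rintro _ ⟨Q, hQ, rfl⟩
  rcases hF.exists_preimage Q with ⟨b, rfl⟩ | ⟨a, rfl⟩
  · rw [hsb]; exact heB hQ
  · rw [hsa]; exact heA hQ

theorem section_ext (V : X'.Opens) {s s' : Γ(X', V)} (h₁ : π.app V s = π.app V s')
    (h₂ : ι'.app V s = ι'.app V s') : s = s' := by
  refine TopCat.Sheaf.eq_of_locally_eq' X'.sheaf (fun W : {W : X'.affineOpens // W.1 ≤ V} => W.1.1) V
    (fun W => homOfLE W.2) (fun p hp => ?_) _ _ fun W => ?_
  · obtain ⟨U, hU, hpU, hUV⟩ := exists_isAffineOpen_mem_and_subset (x := p) (U := V) hp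
    exact Opens.mem_iSup.mpr ⟨⟨⟨U, hU⟩, hUV⟩, hpU⟩
  · have hF := isFibreProd_of_affineOpen h (charts_of_pushout h) W.1.2
    show resR W.2 s = resR W.2 s'
    refine hF.ext _ _ ?_ ?_
    · rw [appLE_eq_app]
      exact (app_resR π W.2 s).trans ((congrArg _ h₁).trans (app_resR π W.2 s').symm)
    · rw [appLE_eq_app]
      exact (app_resR ι' W.2 s).trans ((congrArg _ h₂).trans (app_resR ι' W.2 s').symm)

theorem exists_glue (V : X'.Opens) (a : Γ(X, π ⁻¹ᵁ V)) (c : Γ(Z', ι' ⁻¹ᵁ V))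
    (hac : ι.app (π ⁻¹ᵁ V) a = resR (preimage_le_of_eq h.w V) (q.app (ι' ⁻¹ᵁ V) c)) :
    ∃ b, π.app V b = a ∧ ι'.app V b = c := by
  have hloc : ∀ W : {W : X'.affineOpens // W.1 ≤ V}, ∃ b : Γ(X', W.1.1),
      π.app W.1.1 b = resR (π.preimage_mono W.2) a ∧ ι'.app W.1.1 b = resR (ι'.preimage_mono W.2) c := by
    intro W
    have hF := isFibreProd_of_affineOpen h (charts_of_pushout h) W.1.2
    obtain ⟨b, h1, h2⟩ := hF.exists_of_eq (resR (ι'.preimage_mono W.2) c) (resR (π.preimage_mono W.2) a) (by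
      show ι.appLE (π ⁻¹ᵁ W.1.1) (ι ⁻¹ᵁ π ⁻¹ᵁ W.1.1) le_rfl _ =
        resR (preimage_le_of_eq h.w W.1.1) (q.app (ι' ⁻¹ᵁ W.1.1) _)
      rw [appLE_eq_app, app_resR, app_resR, hac, resR_resR, resR_resR])
    rw [appLE_eq_app] at h1 h2
    exact ⟨b, h1, h2⟩
  choose b hb₁ hb₂ using hloc
  obtain ⟨B, hB, -⟩ := TopCat.Sheaf.existsUnique_gluing' X'.sheaf
    (fun W : {W : X'.affineOpens // W.1 ≤ V} => W.1.1) V (fun W => homOfLE W.2) (fun p hp => by
      obtain ⟨U, hU, hpU, hUV⟩ := exists_isAffineOpen_mem_and_subset (x := p) (U := V) hp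
      exact Opens.mem_iSup.mpr ⟨⟨⟨U, hU⟩, hUV⟩, hpU⟩) b (fun W W' => by
      show resR inf_le_left (b W) = resR (inf_le_right : W.1.1 ⊓ W'.1.1 ≤ W'.1.1) (b W')
      refine section_ext h _ ?_ ?_
      · rw [app_resR, app_resR, hb₁, hb₁, resR_resR, resR_resR]
      · rw [app_resR, app_resR, hb₂, hb₂, resR_resR, resR_resR])
  refine ⟨B, ?_, ?_⟩
  · refine TopCat.Sheaf.eq_of_locally_eq' X.sheaf (fun W : {W : X'.affineOpens // W.1 ≤ V} => π ⁻¹ᵁ W.1.1)
      (π ⁻¹ᵁ V) (fun W => homOfLE (π.preimage_mono W.2)) (fun p hp => ?_) _ _ fun W => ?_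
    · obtain ⟨U, hU, hpU, hUV⟩ := exists_isAffineOpen_mem_and_subset (x := π p) (U := V) hp
      exact Opens.mem_iSup.mpr ⟨⟨⟨U, hU⟩, hUV⟩, hpU⟩
    · show resR (π.preimage_mono W.2) (π.app V B) = resR (π.preimage_mono W.2) a
      rw [← app_resR π W.2, ← hb₁ W]
      exact congrArg _ (hB W)
  · refine TopCat.Sheaf.eq_of_locally_eq' Z'.sheaf (fun W : {W : X'.affineOpens // W.1 ≤ V} => ι' ⁻¹ᵁ W.1.1)
      (ι' ⁻¹ᵁ V) (fun W => homOfLE (ι'.preimage_mono W.2)) (fun p hp => ?_) _ _ fun W => ?_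
    · obtain ⟨U, hU, hpU, hUV⟩ := exists_isAffineOpen_mem_and_subset (x := ι' p) (U := V) hp
      exact Opens.mem_iSup.mpr ⟨⟨⟨U, hU⟩, hUV⟩, hpU⟩
    · show resR (ι'.preimage_mono W.2) (ι'.app V B) = resR (ι'.preimage_mono W.2) c
      rw [← app_resR ι' W.2, ← hb₂ W]
      exact congrArg _ (hB W)

theorem app_comm (V : X'.Opens) (s : Γ(X', V)) :
    ι.app (π ⁻¹ᵁ V) (π.app V s) = resR (preimage_le_of_eq h.w V) (q.app (ι' ⁻¹ᵁ V) (ι'.app V s)) := by
  have key : ∀ (f g : Z ⟶ X') (hfg : f = g) (hle : f ⁻¹ᵁ V ≤ g ⁻¹ᵁ V),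
      f.app V s = resR hle (g.app V s) := by
    rintro f g rfl hle
    exact (resR_self _).symm
  exact key _ _ h.w (preimage_le_of_eq h.w V)

/-- The square is a push-out of ringed spaces. -/
theorem isPushout_space [IsClosedImmersion ι'] : IsPushout (toSp.map ι) (toSp.map q) (toSp.map π) (toSp.map ι') := by
  have w : toSp.map ι ≫ toSp.map π = toSp.map q ≫ toSp.map ι' := by
    rw [← Functor.map_comp, ← Functor.map_comp, h.w]
  refine IsPushout.of_map SheafedSpace.forgetToPresheafedSpace w ?_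
  refine isPushout_presheafedSpace _ _ _ _ (by rw [← Functor.map_comp, w, Functor.map_comp]) ?_ fun V => ?_
  · refine isPushout_topCat ι.base q.base π.base ι'.base ?_ ι'.isClosedEmbedding.injective
      (preimage_range h) (injOn_compl h) (exists_preimage_point h (charts_of_pushout h)) (isOpen_of_preimages h)
    rw [← Scheme.Hom.comp_base, h.w, Scheme.Hom.comp_base]
  · refine IsPullback.of_map (forget CommRingCat.{u}) ?_ ((Types.isPullback_iff _ _ _ _).2 ⟨?_, ?_, ?_⟩)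
    · ext s; exact app_comm h V s
    · ext s; exact app_comm h V s
    · rintro s s' ⟨h₁, h₂⟩; exact section_ext h V h₁ h₂
    · intro a c hac; exact exists_glue h V a c hac

end

end Groth.Agent.FlatAssocX
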