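import Groth.Agent.FlatAssocX.SpacePushout
import Mathlib.Geometry.RingedSpace.PresheafedSpace.HasColimits
import Mathlib.Topology.Category.TopCat.Limits.Basic
import Mathlib.CategoryTheory.Limits.Types.Pullbacks

/-!
# A criterion for push-outs of ringed spaces
-/

set_option autoImplicit false
set_option backward.isDefEq.respectTransparency false
set_option linter.style.haveILetI false

universe u

open CategoryTheory CategoryTheory.Limits AlgebraicGeometry TopologicalSpace Opposite

namespace Groth.Agent.FlatAssocX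

/-- A criterion for push-outs of topological spaces along an injective map. -/
theorem isPushout_topCat {Z X Y P : TopCat.{u}} (f : Z ⟶ X) (g : Z ⟶ Y) (a : X ⟶ P) (b : Y ⟶ P)
    (w : f ≫ a = g ≫ b) (hb : Function.Injective b)
    (hpre : ∀ x y, a x = b y → ∃ z, f z = x ∧ g z = y)
    (hinj : ∀ x x', a x = a x' → x = x' ∨ a x ∈ Set.range b)
    (hsurj : ∀ p, p ∈ Set.range a ∪ Set.range b)
    (hopen : ∀ W : Set P, IsOpen (a ⁻¹' W) → IsOpen (b ⁻¹' W) → IsOpen W) : IsPushout f g a b := by
  have key : ∀ s : PushoutCocone f g, ∃ d : P ⟶ s.pt, a ≫ d = s.inl ∧ b ≫ d = s.inr := by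
    intro s
    have hc : ∀ z, s.inl (f z) = s.inr (g z) := fun z => ConcreteCategory.congr_hom s.condition z
    have hd : ∀ p : P, ∃ v : s.pt, (∀ x, a x = p → s.inl x = v) ∧ (∀ y, b y = p → s.inr y = v) := by
      intro p
      by_cases hp : p ∈ Set.range b
      · obtain ⟨y, rfl⟩ := hp
        refine ⟨s.inr y, fun x hx => ?_, fun y' hy => by rw [hb hy]⟩
        obtain ⟨z, rfl, rfl⟩ := hpre x y hx
        exact hc z
      · obtain ⟨x, rfl⟩ := (hsurj p).resolve_right hp
        refine ⟨s.inl x, fun x' hx => ?_, fun y hy => absurd ⟨y, hy⟩ hp⟩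
        rcases hinj x x' hx.symm with rfl | h
        · rfl
        · exact absurd h hp
    choose d hd₁ hd₂ using hd
    have e₁ : ∀ x, d (a x) = s.inl x := fun x => (hd₁ _ x rfl).symm
    have e₂ : ∀ y, d (b y) = s.inr y := fun y => (hd₂ _ y rfl).symm
    refine ⟨TopCat.ofHom ⟨d, ⟨fun U hU => hopen _ ?_ ?_⟩⟩, ?_, ?_⟩
    · rw [show a ⁻¹' (d ⁻¹' U) = s.inl ⁻¹' U from Set.ext fun x => by show d (a x) ∈ U ↔ _; rw [e₁]; rfl]
      exact hU.preimage s.inl.hom.continuous
    · rw [show b ⁻¹' (d ⁻¹' U) = s.inr ⁻¹' U from Set.ext fun y => by show d (b y) ∈ U ↔ _; rw [e₂]; rfl]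
      exact hU.preimage s.inr.hom.continuous
    · ext x; exact e₁ x
    · ext y; exact e₂ y
  choose d hd₁ hd₂ using key
  refine ⟨⟨w⟩, ⟨PushoutCocone.IsColimit.mk _ d hd₁ hd₂ fun s m hm₁ hm₂ => ?_⟩⟩
  ext p
  rcases hsurj p with ⟨x, rfl⟩ | ⟨y, rfl⟩
  · exact (ConcreteCategory.congr_hom hm₁ x).trans (ConcreteCategory.congr_hom (hd₁ s) x).symm
  · exact (ConcreteCategory.congr_hom hm₂ y).trans (ConcreteCategory.congr_hom (hd₂ s) y).symm

theorem isIso_c_app {Z X Y Q P : PresheafedSpace.{_, _, u} CommRingCat.{u}} {f : Z ⟶ X} {g : Z ⟶ Y}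
    {inl : X ⟶ Q} {inr : Y ⟶ Q} (h0 : IsPushout f g inl inr) (φ : Q ⟶ P) (V : Opens P.carrier)
    (hsec : IsPullback ((inl ≫ φ).c.app (op V)) ((inr ≫ φ).c.app (op V))
      (f.c.app (op ((Opens.map (inl ≫ φ).base).obj V)))
      (g.c.app (op ((Opens.map (inr ≫ φ).base).obj V)) ≫
        Z.presheaf.map (eqToHom (preimage_comp_eq
          (show f ≫ inl ≫ φ = g ≫ inr ≫ φ by rw [← Category.assoc, h0.w, Category.assoc]) V).symm).op)) :
    IsIso (φ.c.app (op V)) := by
  have h1 := isPullback_pushout_sections h0 ((Opens.map φ.base).obj V)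
  let e := hsec.isoIsPullback _ _ h1
  have he : φ.c.app (op V) = e.hom := by
    refine h1.hom_ext ?_ ?_
    · exact (PresheafedSpace.comp_c_app inl φ (op V)).symm.trans (hsec.isoIsPullback_hom_fst _ _ h1).symm
    · exact (PresheafedSpace.comp_c_app inr φ (op V)).symm.trans (hsec.isoIsPullback_hom_snd _ _ h1).symm
  rw [he]
  infer_instance

/-- A criterion for push-outs of presheafed spaces. -/
theorem isPushout_presheafedSpace {Z X Y P : PresheafedSpace.{_, _, u} CommRingCat.{u}} (f : Z ⟶ X) (g : Z ⟶ Y)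
    (a : X ⟶ P) (b : Y ⟶ P) (w : f ≫ a = g ≫ b) (htop : IsPushout f.base g.base a.base b.base)
    (hsec : ∀ V : Opens P.carrier, IsPullback (a.c.app (op V)) (b.c.app (op V))
      (f.c.app (op ((Opens.map a.base).obj V)))
      (g.c.app (op ((Opens.map b.base).obj V)) ≫ Z.presheaf.map (eqToHom (preimage_comp_eq w V).symm).op)) :
    IsPushout f g a b := by
  have h0 := IsPushout.of_hasPushout f g
  let φ : pushout f g ⟶ P := pushout.desc a b w
  have h0' := h0.map (PresheafedSpace.forget CommRingCat.{u})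
  haveI : IsIso φ.base := by
    have he : φ.base = (h0'.isoIsPushout _ _ htop).hom := by
      refine h0'.hom_ext ?_ ?_
      · rw [h0'.inl_isoIsPushout_hom]
        exact congrArg PresheafedSpace.Hom.base (pushout.inl_desc a b w)
      · rw [h0'.inr_isoIsPushout_hom]
        exact congrArg PresheafedSpace.Hom.base (pushout.inr_desc a b w)
    rw [he]
    infer_instance
  have hc : ∀ V : Opens P.carrier, IsIso (φ.c.app (op V)) := by
    have key : ∀ (a' : X ⟶ P) (b' : Y ⟶ P) (w' : f ≫ a' = g ≫ b') (V : Opens P.carrier),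
        a' = pushout.inl f g ≫ φ → b' = pushout.inr f g ≫ φ →
        IsPullback (a'.c.app (op V)) (b'.c.app (op V)) (f.c.app (op ((Opens.map a'.base).obj V)))
          (g.c.app (op ((Opens.map b'.base).obj V)) ≫ Z.presheaf.map (eqToHom (preimage_comp_eq w' V).symm).op) →
        IsIso (φ.c.app (op V)) := by
      intro a' b' w' V ha hb h
      subst ha hb
      exact isIso_c_app h0 φ V h
    exact fun V => key a b w V (pushout.inl_desc a b w).symm (pushout.inr_desc a b w).symm (hsec V)
  haveI : IsIso φ.c := by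
    haveI : ∀ V, IsIso (φ.c.app V) := fun V => hc (unop V)
    exact NatIso.isIso_of_isIso_app _
  haveI : IsIso φ := PresheafedSpace.isIso_of_components φ
  exact IsPushout.of_iso h0 (Iso.refl _) (Iso.refl _) (Iso.refl _) (asIso φ) (by simp) (by simp)
    (by simp [φ]) (by simp [φ])

end Groth.Agent.FlatAssocX
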