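import Mathlib.Geometry.RingedSpace.SheafedSpace
import Mathlib.Algebra.Category.Ring.Limits
import Mathlib.CategoryTheory.Limits.Shapes.Pullback.IsPullback.Basic
import Mathlib.Algebra.Category.Ring.Constructions

/-!
# Sections on a push-out of ringed spaces
-/

set_option autoImplicit false
set_option backward.isDefEq.respectTransparency false
set_option linter.style.haveILetI false

universe u

open CategoryTheory CategoryTheory.Limits AlgebraicGeometry TopologicalSpace Opposite

namespace Groth.Agent.FlatAssocX

variable {Z X Y P : PresheafedSpace.{_, _, u} CommRingCat.{u}}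

theorem preimage_comp_eq {f : Z ⟶ X} {g : Z ⟶ Y} {a : X ⟶ P} {b : Y ⟶ P} (w : f ≫ a = g ≫ b)
    (V : Opens P.carrier) :
    (Opens.map g.base).obj ((Opens.map b.base).obj V) = (Opens.map f.base).obj ((Opens.map a.base).obj V) := by
  change (Opens.map (g ≫ b).base).obj V = (Opens.map (f ≫ a).base).obj V
  rw [w]

theorem isPullback_sections_aux (f : Z ⟶ X) (g : Z ⟶ Y) (e : colimit (span f g) ≅ P)
    (V : Opens P.carrier)
    (w : f ≫ colimit.ι (span f g) WalkingSpan.left ≫ e.hom = g ≫ colimit.ι (span f g) WalkingSpan.right ≫ e.hom) :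
    IsPullback ((colimit.ι (span f g) WalkingSpan.left ≫ e.hom).c.app (op V))
      ((colimit.ι (span f g) WalkingSpan.right ≫ e.hom).c.app (op V))
      (f.c.app (op ((Opens.map (colimit.ι (span f g) WalkingSpan.left ≫ e.hom).base).obj V)))
      (g.c.app (op ((Opens.map (colimit.ι (span f g) WalkingSpan.right ≫ e.hom).base).obj V)) ≫
        Z.presheaf.map (eqToHom (preimage_comp_eq w V).symm).op) := by
  let F := span f g
  let V' := (Opens.map e.hom.base).obj V
  let φ : P.presheaf.obj (op V) ⟶ limit (PresheafedSpace.componentwiseDiagram F V') :=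
    e.hom.c.app (op V) ≫ (PresheafedSpace.colimitPresheafObjIsoComponentwiseLimit F V').hom
  haveI : IsIso φ := by
    haveI : IsIso e.hom.c := PresheafedSpace.c_isIso_of_iso e.hom
    haveI : IsIso (e.hom.c.app (op V)) := inferInstance
    infer_instance
  have hφ : ∀ j, φ ≫ limit.π (PresheafedSpace.componentwiseDiagram F V') (op j) = (colimit.ι F j ≫ e.hom).c.app (op V) := fun j => by
    simp only [φ, Category.assoc, PresheafedSpace.colimitPresheafObjIsoComponentwiseLimit_hom_π]
    rw [PresheafedSpace.comp_c_app]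
  let D := PresheafedSpace.componentwiseDiagram F V'
  have hcond : ∀ {T : CommRingCat.{u}} (p : T ⟶ D.obj (op WalkingSpan.left)) (q : T ⟶ D.obj (op WalkingSpan.right)),
      p ≫ D.map (WalkingSpan.Hom.fst).op = q ≫ D.map (WalkingSpan.Hom.snd).op ↔
      p ≫ f.c.app (op ((Opens.map (colimit.ι F WalkingSpan.left ≫ e.hom).base).obj V)) =
        q ≫ g.c.app (op ((Opens.map (colimit.ι F WalkingSpan.right ≫ e.hom).base).obj V)) ≫
          Z.presheaf.map (eqToHom (preimage_comp_eq w V).symm).op := by
    intro T p q
    have e1 : (Opens.map f.base).obj ((Opens.map (colimit.ι F WalkingSpan.left ≫ e.hom).base).obj V) =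
        (Opens.map (colimit.ι F WalkingSpan.zero).base).obj V' := by
      rw [← colimit.w F WalkingSpan.Hom.fst]; rfl
    have e2 : (Opens.map g.base).obj ((Opens.map (colimit.ι F WalkingSpan.right ≫ e.hom).base).obj V) =
        (Opens.map (colimit.ι F WalkingSpan.zero).base).obj V' := by
      rw [← colimit.w F WalkingSpan.Hom.snd]; rfl
    have d1 : D.map (WalkingSpan.Hom.fst).op = f.c.app _ ≫ Z.presheaf.map (eqToHom e1.symm).op := by
      simp only [D, PresheafedSpace.componentwiseDiagram, F, eqToHom_op]
      rfl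
    have d2 : D.map (WalkingSpan.Hom.snd).op = g.c.app _ ≫ Z.presheaf.map (eqToHom e2.symm).op := by
      simp only [D, PresheafedSpace.componentwiseDiagram, F, eqToHom_op]
      rfl
    refine (iff_of_eq (congrArg₂ (fun x y => p ≫ x = q ≫ y) d1 d2)).trans ?_
    have e3 : Z.presheaf.map (eqToHom e2.symm).op =
        Z.presheaf.map (eqToHom (preimage_comp_eq w V).symm).op ≫ Z.presheaf.map (eqToHom e1.symm).op := by
      erw [← Z.presheaf.map_comp]
      rfl
    rw [e3]
    simp only [← Category.assoc]
    exact cancel_mono _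
  refine ⟨⟨?_⟩, ⟨PullbackCone.IsLimit.mk _ (fun s => ?_) (fun s => ?_) (fun s => ?_) (fun s m h₁ h₂ => ?_)⟩⟩
  · refine (hcond _ _).1 ?_
    exact ((congrArg (· ≫ D.map (WalkingSpan.Hom.fst).op) (hφ WalkingSpan.left).symm).trans
      ((Category.assoc _ _ _).trans (congrArg (φ ≫ ·) (limit.w D (WalkingSpan.Hom.fst).op)))).trans
      (((congrArg (· ≫ D.map (WalkingSpan.Hom.snd).op) (hφ WalkingSpan.right).symm).trans
      ((Category.assoc _ _ _).trans (congrArg (φ ≫ ·) (limit.w D (WalkingSpan.Hom.snd).op)))).symm)
  · refine limit.lift D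
      { pt := s.pt
        π :=
          { app := fun j => match j with
              | ⟨none⟩ => (show s.pt ⟶ D.obj (op WalkingSpan.left) from s.fst) ≫ D.map (WalkingSpan.Hom.fst).op
              | ⟨some .left⟩ => s.fst
              | ⟨some .right⟩ => s.snd
            naturality := ?_ } } ≫ inv φ
    rintro ⟨j⟩ ⟨k⟩ ⟨t⟩
    cases t with
    | id =>
      dsimp only [Functor.const_obj_map]
      erw [D.map_id]
      simp
    | init i =>
      cases i
      · exact Category.id_comp _
      · exact (Category.id_comp _).trans ((hcond _ _).2 s.condition)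
  · refine (congrArg (_ ≫ ·) (hφ WalkingSpan.left).symm).trans ?_
    exact (Category.assoc _ _ _).trans ((congrArg (_ ≫ ·) (IsIso.inv_hom_id_assoc φ _)).trans (limit.lift_π _ _))
  · refine (congrArg (_ ≫ ·) (hφ WalkingSpan.right).symm).trans ?_
    exact (Category.assoc _ _ _).trans ((congrArg (_ ≫ ·) (IsIso.inv_hom_id_assoc φ _)).trans (limit.lift_π _ _))
  · rw [IsIso.eq_comp_inv]
    refine limit.hom_ext fun j => ?_
    obtain ⟨j⟩ := j
    have hl := (congrArg (m ≫ ·) (hφ WalkingSpan.left)).trans h₁
    have hr := (congrArg (m ≫ ·) (hφ WalkingSpan.right)).trans h₂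
    erw [limit.lift_π]
    refine (Category.assoc _ _ _).trans ?_
    match j with
    | some .left => exact hl
    | some .right => exact hr
    | none =>
      refine (congrArg (fun t => m ≫ φ ≫ t) (limit.w D (WalkingSpan.Hom.fst).op).symm).trans ?_
      exact (congrArg (m ≫ ·) (Category.assoc _ _ _).symm).trans
        ((Category.assoc _ _ _).symm.trans (congrArg (· ≫ D.map (WalkingSpan.Hom.fst).op) hl))

/-- Sections of a push-out of presheafed spaces form a pull-back. -/
theorem isPullback_pushout_sections {f : Z ⟶ X} {g : Z ⟶ Y} {a : X ⟶ P} {b : Y ⟶ P}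
    (h : IsPushout f g a b) (V : Opens P.carrier) :
    IsPullback (a.c.app (op V)) (b.c.app (op V)) (f.c.app (op ((Opens.map a.base).obj V)))
      (g.c.app (op ((Opens.map b.base).obj V)) ≫
        Z.presheaf.map (eqToHom (preimage_comp_eq h.w V).symm).op) := by
  have key : ∀ (e : colimit (span f g) ≅ P) (a : X ⟶ P) (b : Y ⟶ P) (w : f ≫ a = g ≫ b),
      a = colimit.ι (span f g) WalkingSpan.left ≫ e.hom → b = colimit.ι (span f g) WalkingSpan.right ≫ e.hom →
      IsPullback (a.c.app (op V)) (b.c.app (op V)) (f.c.app (op ((Opens.map a.base).obj V)))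
        (g.c.app (op ((Opens.map b.base).obj V)) ≫
          Z.presheaf.map (eqToHom (preimage_comp_eq w V).symm).op) := by
    intro e a b w ha hb
    subst ha hb
    exact isPullback_sections_aux f g e V w
  exact key h.isoPushout.symm a b h.w h.inl_isoPushout_inv.symm h.inr_isoPushout_inv.symm

end Groth.Agent.FlatAssocX
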