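import Groth.Agent.FlatAssocX.PushoutSpace
import Groth.Agent.RingPO.BaseChange

/-!
# Base change of flat push-outs of ringed spaces
-/

set_option autoImplicit false
set_option backward.isDefEq.respectTransparency false
set_option linter.style.haveILetI false

universe u

open CategoryTheory CategoryTheory.Limits AlgebraicGeometry TopologicalSpace Opposite

namespace Groth.Agent.FlatAssocX

variable {S X Z Z' X' : Scheme.{u}} {fX : X ⟶ S} {fZ' : Z' ⟶ S} {fX' : X' ⟶ S} {ι : Z ⟶ X} {q : Z ⟶ Z'}
  {π : X ⟶ X'} {ι' : Z' ⟶ X'}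

theorem isPushout_space_baseChange [IsClosedImmersion ι] [IsClosedImmersion ι'] [IsAffineHom π]
    (hq : q ≫ fZ' = ι ≫ fX) (hπ : π ≫ fX' = fX) (hι' : ι' ≫ fX' = fZ')
    (hpo : IsPushout (toSp.map ι) (toSp.map q) (toSp.map π) (toSp.map ι'))
    [Flat (ι ≫ fX)] {T : Scheme.{u}} (g : T ⟶ S) :
    IsPushout
      (toSp.map ((Over.pullback g).map (Over.homMk ι rfl : Over.mk (ι ≫ fX) ⟶ Over.mk fX)).left)
      (toSp.map ((Over.pullback g).map (Over.homMk q hq : Over.mk (ι ≫ fX) ⟶ Over.mk fZ')).left)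
      (toSp.map ((Over.pullback g).map (Over.homMk π hπ : Over.mk fX ⟶ Over.mk fX')).left)
      (toSp.map ((Over.pullback g).map (Over.homMk ι' hι' : Over.mk fZ' ⟶ Over.mk fX')).left) := by
  have hw : ι ≫ π = q ≫ ι' := toSp.map_injective (by rw [Functor.map_comp, Functor.map_comp]; exact hpo.w)
  have h := isPushout_of_space hpo hw
  set ιT := ((Over.pullback g).map (Over.homMk ι rfl : Over.mk (ι ≫ fX) ⟶ Over.mk fX)).left
  set qT := ((Over.pullback g).map (Over.homMk q hq : Over.mk (ι ≫ fX) ⟶ Over.mk fZ')).left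
  set πT := ((Over.pullback g).map (Over.homMk π hπ : Over.mk fX ⟶ Over.mk fX')).left
  set ι'T := ((Over.pullback g).map (Over.homMk ι' hι' : Over.mk fZ' ⟶ Over.mk fX')).left
  have hX : IsPullback (pullback.fst fX g) πT π (pullback.fst fX' g) :=
    RingPO.isPullback_map_square hπ g (pullback.lift_fst _ _ _) (pullback.lift_snd _ _ _)
  have hY : IsPullback (pullback.fst fZ' g) ι'T ι' (pullback.fst fX' g) :=
    RingPO.isPullback_map_square hι' g (pullback.lift_fst _ _ _) (pullback.lift_snd _ _ _)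
  have hZ : IsPullback (pullback.fst (ι ≫ fX) g) ιT ι (pullback.fst fX g) :=
    RingPO.isPullback_map_square rfl g (pullback.lift_fst _ _ _) (pullback.lift_snd _ _ _)
  haveI : IsAffineHom πT := MorphismProperty.of_isPullback (P := @IsAffineHom) hX ‹_›
  haveI : IsClosedImmersion ι'T := MorphismProperty.of_isPullback (P := @IsClosedImmersion) hY ‹_›
  haveI : IsClosedImmersion ιT := MorphismProperty.of_isPullback (P := @IsClosedImmersion) hZ ‹_›
  haveI : IsAffineHom ι' := inferInstance
  have hf : Flat ((ι ≫ π) ≫ fX') := by rw [Category.assoc, hπ]; infer_instance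
  refine isPushout_space (RingPO.isPushout_baseChange h (charts_of_pushout h) fX' g (Or.inl hf)
    (IsPullback.of_hasPullback fX' g) hX hY hZ (pullback.lift_fst _ _ _) ?_)
  simp only [ιT, qT, πT, ι'T, ← Over.comp_left, ← Functor.map_comp]
  congr 2
  ext
  exact hw

end Groth.Agent.FlatAssocX
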