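import Groth.Agent.RingPO.Sep

/-!
# Push-outs along a closed immersion in the standard situation over a base
-/

set_option autoImplicit false

universe u

open AlgebraicGeometry CategoryTheory CategoryTheory.Limits TopologicalSpace Opposite

namespace Groth.Agent.FlatAssocX.StdChart

variable {X Y T Z : Scheme.{u}} {f : X ⟶ Y} {t : T ⟶ Y} {ξ : Z ⟶ T} {ι : Z ⟶ X}

theorem exists_chart [IsAffineHom t] (hsq : ι ≫ f = ξ ≫ t)
    (hstd : ∀ y : Y, ∃ U : Y.Opens, IsAffineOpen U ∧ y ∈ U ∧ ∃ V : X.Opens, IsAffineOpen V ∧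
      V ≤ f ⁻¹ᵁ U ∧ ∀ z : Z, (ξ ≫ t).base z ∈ U → ι.base z ∈ V) (y : Y) :
    ∃ (U : Y.Opens), IsAffineOpen U ∧ y ∈ U ∧ ∃ c : RingPO.Chart ι ξ, c.V = t ⁻¹ᵁ U ∧ c.U ≤ f ⁻¹ᵁ U := by
  obtain ⟨U, hU, hy, V, hV, hVU, hz⟩ := hstd y
  have he : ι ⁻¹ᵁ V = ξ ⁻¹ᵁ (t ⁻¹ᵁ U) := le_antisymm
    ((ι.preimage_mono hVU).trans (le_of_eq (by rw [← Scheme.Hom.comp_preimage, hsq, Scheme.Hom.comp_preimage])))
    fun z h => hz z h
  exact ⟨U, hU, hy, ⟨V, t ⁻¹ᵁ U, hV, hU.preimage t, he⟩, rfl, hVU⟩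

theorem charts [IsAffineHom t] (hsq : ι ≫ f = ξ ≫ t)
    (hstd : ∀ y : Y, ∃ U : Y.Opens, IsAffineOpen U ∧ y ∈ U ∧ ∃ V : X.Opens, IsAffineOpen V ∧
      V ≤ f ⁻¹ᵁ U ∧ ∀ z : Z, (ξ ≫ t).base z ∈ U → ι.base z ∈ V) (x : T) :
    ∃ c : RingPO.Chart ι ξ, x ∈ c.V := by
  obtain ⟨U, -, hx, c, hcV, -⟩ := exists_chart hsq hstd (t x)
  exact ⟨c, hcV ▸ hx⟩

variable {P : Scheme.{u}} {a : X ⟶ P} {b : T ⟶ P}

theorem isFinite_inl [IsClosedImmersion ι] [IsFinite ξ] [IsLocallyNoetherian Y] [LocallyOfFiniteType f]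
    (hsq : ι ≫ f = ξ ≫ t) (hP : IsPushout ι ξ a b) (hY : ∀ x : T, ∃ c : RingPO.Chart ι ξ, x ∈ c.V) :
    IsFinite a := by
  haveI := RingPO.isIntegralHom_inl hP hY
  haveI : LocallyOfFiniteType (a ≫ hP.desc f t hsq) := by rw [hP.inl_desc]; infer_instance
  haveI : LocallyOfFiniteType a := locallyOfFiniteType_of_comp a (hP.desc f t hsq)
  exact (IsFinite.iff_isIntegralHom_and_locallyOfFiniteType a).2 ⟨‹_›, ‹_›⟩

theorem universallyClosed_of_jointly_surjective {A B W V : Scheme.{u}} (a : A ⟶ W) (b : B ⟶ W) (p : W ⟶ V)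
    (hsurj : ∀ x : W, x ∈ Set.range a ∪ Set.range b) [UniversallyClosed (a ≫ p)] [UniversallyClosed (b ≫ p)] :
    UniversallyClosed p := by
  refine ⟨fun W' V' g₁ g₂ p' hsq => fun C hC => ?_⟩
  have key : ∀ {A : Scheme.{u}} (a : A ⟶ W) [UniversallyClosed (a ≫ p)],
      IsClosed (p' '' (pullback.snd a g₁ '' (pullback.snd a g₁ ⁻¹' C))) := by
    intro A a _
    have hP : IsPullback (pullback.snd a g₁ ≫ p') (pullback.fst a g₁) g₂ (a ≫ p) :=
      (IsPullback.of_hasPullback a g₁).flip.paste_horiz hsq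
    rw [← Set.image_comp]
    exact UniversallyClosed.universally_isClosedMap (f := a ≫ p) _ _ _ hP _ (hC.preimage (pullback.snd a g₁).continuous)
  have : p' '' C = p' '' (pullback.snd a g₁ '' (pullback.snd a g₁ ⁻¹' C)) ∪
      p' '' (pullback.snd b g₁ '' (pullback.snd b g₁ ⁻¹' C)) := by
    rw [← Set.image_union]
    congr 1
    refine subset_antisymm (fun x hx => ?_) ?_
    · rcases hsurj (g₁ x) with ⟨y, hy⟩ | ⟨y, hy⟩
      · obtain ⟨z, -, hz⟩ := Scheme.Pullback.exists_preimage_pullback (f := a) (g := g₁) y x hy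
        exact Or.inl ⟨z, show pullback.snd a g₁ z ∈ C by rw [hz]; exact hx, hz⟩
      · obtain ⟨z, -, hz⟩ := Scheme.Pullback.exists_preimage_pullback (f := b) (g := g₁) y x hy
        exact Or.inr ⟨z, show pullback.snd b g₁ z ∈ C by rw [hz]; exact hx, hz⟩
    · rintro _ (⟨y, hy, rfl⟩ | ⟨y, hy, rfl⟩) <;> exact hy
  show IsClosed (p' '' C)
  rw [this]
  exact (key a).union (key b)

theorem finiteType_quasiCompact [IsClosedImmersion ι] [IsFinite ξ] [IsLocallyNoetherian Y]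
    (hP : IsPushout ι ξ a b) (hY : ∀ x : T, ∃ c : RingPO.Chart ι ξ, x ∈ c.V)
    (p : P ⟶ Y) [LocallyOfFiniteType (a ≫ p)] [QuasiCompact (a ≫ p)] [LocallyOfFiniteType (b ≫ p)]
    [QuasiCompact (b ≫ p)] :
    (LocallyOfFiniteType p ∧ QuasiCompact p) ∧ (IsProper (a ≫ p) → IsProper (b ≫ p) → IsProper p) := by
  have hsurj : ∀ x : P, x ∈ Set.range a ∪ Set.range b := RingPO.exists_preimage_point hP hY
  have hft : LocallyOfFiniteType p := RingPO.locallyOfFiniteType_of_isPushout hP hY p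
  have hqc : QuasiCompact p := by
    refine (quasiCompact_iff p).mpr fun K hK hKc => ?_
    have : p ⁻¹' K = a '' ((a ≫ p) ⁻¹' K) ∪ b '' ((b ≫ p) ⁻¹' K) := by
      refine subset_antisymm (fun x hx => ?_) ?_
      · rcases hsurj x with ⟨y, rfl⟩ | ⟨y, rfl⟩
        · exact Or.inl ⟨y, hx, rfl⟩
        · exact Or.inr ⟨y, hx, rfl⟩
      · rintro _ (⟨y, hy, rfl⟩ | ⟨y, hy, rfl⟩) <;> exact hy
    rw [this]
    exact ((QuasiCompact.isCompact_preimage (f := a ≫ p) _ hK hKc).image a.continuous).union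
      ((QuasiCompact.isCompact_preimage (f := b ≫ p) _ hK hKc).image b.continuous)
  refine ⟨⟨hft, hqc⟩, fun hpa hpb => ?_⟩
  haveI : IsSeparated p := RingPO.isSeparated_of_isPushout hP hY p
  haveI : UniversallyClosed p := universallyClosed_of_jointly_surjective a b p hsurj
  exact (isProper_iff p).mpr ⟨‹_›, ‹_›, hft⟩

end Groth.Agent.FlatAssocX.StdChart
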